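import Cfsg.Agent.Lib.Perm.Marggraf.Defs

/-!
# Passing to the pointwise stabilizer
-/

set_option autoImplicit false

open Finset Equiv

namespace Cfsg.Agent.Marggraf

variable {α : Type*} [DecidableEq α] {G : Subgroup (Perm α)}

/-- The group induced on the complement of `S` by its pointwise stabilizer. -/
def restrict (G : Subgroup (Perm α)) (S : Finset α) : Subgroup (Perm {x : α // x ∉ S}) where
  carrier := {σ | ∃ g ∈ G, (∀ z ∈ S, g z = z) ∧ ∀ x : {x : α // x ∉ S}, g x = σ x}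
  mul_mem' := by
    rintro σ τ ⟨g, hg, hgS, hgσ⟩ ⟨u, hu, huS, huτ⟩
    refine ⟨g * u, G.mul_mem hg hu, fun z hz => by rw [Perm.mul_apply, huS z hz, hgS z hz],
      fun x => ?_⟩
    rw [Perm.mul_apply, huτ, hgσ, Perm.mul_apply]
  one_mem' := ⟨1, G.one_mem, fun _ _ => rfl, fun _ => rfl⟩
  inv_mem' := by
    rintro σ ⟨g, hg, hgS, hgσ⟩
    refine ⟨g⁻¹, G.inv_mem hg, fun z hz => ?_, fun x => ?_⟩
    · rw [Perm.inv_eq_iff_eq]; exact (hgS z hz).symm
    · rw [Perm.inv_eq_iff_eq, hgσ]; simp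

lemma lift_mem {S : Finset α} {g : Perm α} (hgS : ∀ z ∈ S, g z = z) (x : α) :
    x ∉ S ↔ g x ∉ S := by
  constructor
  · intro hx h
    exact hx (g.injective (hgS _ h) ▸ h)
  · intro hx h
    exact hx ((hgS x h).symm ▸ h)

lemma exists_restrict_mem {S : Finset α} {g : Perm α} (hg : g ∈ G) (hgS : ∀ z ∈ S, g z = z) :
    ∃ σ ∈ restrict G S, ∀ x : {x : α // x ∉ S}, (σ x : α) = g x :=
  ⟨g.subtypePerm (fun x => (lift_mem hgS x).symm), ⟨g, hg, hgS, fun _ => rfl⟩, fun _ => rfl⟩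

lemma primAt_restrict {S : Finset α} (h : PrimAt G S) : PrimAt (restrict G S) ∅ := by
  classical
  refine ⟨fun x y _ _ => ?_, fun r hr hp => ?_⟩
  · obtain ⟨g, hg, hgS, hgxy⟩ := h.1 x y x.2 y.2
    obtain ⟨σ, hσ, hσg⟩ := exists_restrict_mem hg hgS
    exact ⟨σ, hσ, by simp, Subtype.ext (by rw [hσg, hgxy])⟩
  · refine h.2 (fun a b => a = b ∨ ∃ (ha : a ∉ S) (hb : b ∉ S), r ⟨a, ha⟩ ⟨b, hb⟩) ?_ ?_
    · refine ⟨fun _ => .inl rfl, ?_, ?_, ?_, ?_⟩
      · rintro x y (rfl | ⟨hx, hy, hxy⟩)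
        exacts [.inl rfl, .inr ⟨hy, hx, hr.symm hxy⟩]
      · rintro x y z (rfl | ⟨hx, hy, hxy⟩) hyz
        · exact hyz
        · rcases hyz with rfl | ⟨_, hz, hyz⟩
          exacts [.inr ⟨hx, hy, hxy⟩, .inr ⟨hx, hz, hr.trans hxy hyz⟩]
      · rintro x y (rfl | ⟨hx, -, -⟩) hne
        exacts [absurd rfl hne, hx]
      · rintro g hg hgS x y (rfl | ⟨hx, hy, hxy⟩)
        · exact .inl rfl
        · refine .inr ⟨(lift_mem hgS x).mp hx, (lift_mem hgS y).mp hy, ?_⟩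
          obtain ⟨σ, hσ, hσg⟩ := exists_restrict_mem hg hgS
          have := hr.smul hσ (by simp) hxy
          convert this using 1 <;> refine Subtype.ext ?_ <;> simp only [hσg]
    · obtain ⟨⟨x, y, hxy, hne⟩, u, v, -, -, huv⟩ := hp
      refine ⟨⟨x, y, .inr ⟨x.2, y.2, hxy⟩, fun e => hne (Subtype.ext e)⟩,
        ⟨u, v, u.2, v.2, ?_⟩⟩
      rintro (e | ⟨_, _, e⟩)
      · exact huv (Subtype.ext e ▸ hr.refl u)
      · exact huv e

lemma jordan_restrict {S Γ : Finset α} (hΓ : IsJordan G Γ) (hd : ∀ z ∈ S, z ∉ Γ) :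
    IsJordan (restrict G S) (Γ.subtype (· ∉ S)) := by
  intro x hx y hy
  rw [mem_subtype] at hx hy
  obtain ⟨g, hg, hgf, hgxy⟩ := hΓ x hx y hy
  obtain ⟨σ, hσ, hσg⟩ := exists_restrict_mem hg (fun z hz => hgf z (hd z hz))
  refine ⟨σ, hσ, fun z hz => ?_, Subtype.ext (by rw [hσg, hgxy])⟩
  rw [mem_subtype] at hz
  exact Subtype.ext (by rw [hσg, hgf z hz])

lemma card_subtype_disjoint {S Γ : Finset α} (hd : ∀ z ∈ S, z ∉ Γ) :
    (Γ.subtype (· ∉ S)).card = Γ.card := by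
  rw [card_subtype, filter_true_of_mem]
  exact fun z hz h => hd z h hz

lemma transAt_of_restrict {S : Finset α} {a : {x : α // x ∉ S}}
    (h : TransAt (restrict G S) {a}) : TransAt G (insert (a : α) S) := by
  intro x y hx hy
  rw [mem_insert, not_or] at hx hy
  obtain ⟨σ, ⟨g, hg, hgS, hgσ⟩, hσa, hσxy⟩ := h ⟨x, hx.2⟩ ⟨y, hy.2⟩
    (by simpa [Subtype.ext_iff] using hx.1) (by simpa [Subtype.ext_iff] using hy.1)
  refine ⟨g, hg, fun z hz => ?_, ?_⟩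
  · rcases mem_insert.mp hz with rfl | hz
    · rw [hgσ, hσa a (mem_singleton_self a)]
    · exact hgS z hz
  · have := hgσ ⟨x, hx.2⟩
    rw [hσxy] at this
    exact this

lemma threeCycle_of_restrict [Fintype α] {S : Finset α} {σ : Perm {x : α // x ∉ S}}
    (hσ : σ ∈ restrict G S) (h3 : σ.IsThreeCycle) : ∃ g ∈ G, g.IsThreeCycle := by
  obtain ⟨g, hg, hgS, hgσ⟩ := hσ
  refine ⟨g, hg, ?_⟩
  have : Perm.ofSubtype σ = g := by
    ext x
    by_cases hx : x ∈ S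
    · rw [Perm.ofSubtype_apply_of_not_mem σ (by simpa using hx), hgS x hx]
    · rw [Perm.ofSubtype_apply_of_mem σ hx, ← hgσ]
  rw [← this, Perm.IsThreeCycle, Perm.cycleType_ofSubtype]
  exact h3

end Cfsg.Agent.Marggraf
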