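import Cfsg.Agent.Lib.Perm.Marggraf.Steiner
import Cfsg.Agent.Lib.Perm.Marggraf.Restrict

/-!
# Primitive groups with a Jordan set: two-transitivity and two-primitivity
-/

set_option autoImplicit false

open Finset Equiv

namespace Cfsg.Agent.Marggraf

variable {α : Type*} [DecidableEq α] [Fintype α] {G : Subgroup (Perm α)}

/-- Jordan's theorem: a primitive group with a Jordan set is two-transitive. -/
theorem transAt_singleton (hG : PrimAt G ∅) {Γ : Finset α} (hΓ : IsJordan G Γ)
    (hk : 2 ≤ Γ.card) (hkn : Γ.card < Fintype.card α) (a : α) : TransAt G {a} := by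
  classical
  obtain ⟨W, hW, hmax⟩ := Finset.exists_max_image
    ((univ : Finset (Finset α)).filter fun W => IsJordan G W ∧ 2 ≤ W.card ∧ W.card < Fintype.card α)
    card ⟨Γ, by simp [hΓ, hk, hkn]⟩
  simp only [mem_filter, mem_univ, true_and] at hW hmax
  obtain ⟨hWJ, hW2, hWn⟩ := hW
  have hWne : W.Nonempty := card_pos.mp (by omega)
  have hWu : W ≠ univ := fun e => by rw [e, card_univ] at hWn; omega
  have hbig : Fintype.card α ≤ W.card + 1 := by
    by_contra hlt
    push Not at hlt
    obtain ⟨A, hA, c, hcW, hcA, e, heA, heW, hUn⟩ : ∃ A ∈ Tr G W, ∃ c, c ∈ W ∧ c ∈ A ∧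
        ∃ e, e ∈ A ∧ e ∉ W ∧ (W ∪ A).card < Fintype.card α := by
      by_cases h2 : 2 * W.card ≤ Fintype.card α
      · obtain ⟨u, hu, v, hv, huv⟩ := one_lt_card.mp hW2
        obtain ⟨A, hA, huA, hvA⟩ := exists_separating hG hWne hWu huv
        have hAW : ¬ A ⊆ W := fun h =>
          hvA ((eq_of_subset_of_card_le h (Tr_card hA).ge).symm ▸ hv)
        obtain ⟨e, he, heW⟩ := not_subset.mp hAW
        refine ⟨A, hA, u, hu, huA, e, he, heW, ?_⟩
        have h1 := card_union_add_card_inter W A
        have h2' : 0 < (W ∩ A).card := card_pos.mpr ⟨u, mem_inter.mpr ⟨hu, huA⟩⟩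
        have := Tr_card hA
        omega
      · have hc : 1 < Wᶜ.card := by rw [card_compl]; omega
        obtain ⟨u, hu, v, hv, huv⟩ := one_lt_card.mp hc
        rw [mem_compl] at hu hv
        obtain ⟨A, hA, hvA, huA⟩ := exists_separating hG hWne hWu huv.symm
        have hUn : (W ∪ A).card < Fintype.card α :=
          card_lt_univ_of_notMem (x := u) (by simp [hu, huA])
        have h1 := card_union_add_card_inter W A
        have := Tr_card hA
        obtain ⟨c, hc⟩ := card_pos.mp (show 0 < (W ∩ A).card by omega)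
        exact ⟨A, hA, c, (mem_inter.mp hc).1, (mem_inter.mp hc).2, v, hvA, hv, hUn⟩
    have hsub : W.card < (W ∪ A).card := card_lt_card
      ((ssubset_iff_of_subset subset_union_left).mpr ⟨e, mem_union_right _ heA, heW⟩)
    have := hmax (W ∪ A) ⟨hWJ.union (Tr_jordan hWJ hA) hcW hcA, by omega, hUn⟩
    omega
  obtain ⟨b, hb⟩ : ∃ b, Wᶜ = {b} := card_eq_one.mp (by rw [card_compl]; omega)
  have hbW : ∀ z, z ∉ W ↔ z = b := fun z => by rw [← mem_compl, hb, mem_singleton]
  intro x y hx hy
  rw [mem_singleton] at hx hy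
  obtain ⟨g, hg, -, hgab⟩ := hG.1 b a (notMem_empty _) (notMem_empty _)
  have hJ := hWJ.image hg
  have hmem : ∀ z, z ≠ a → z ∈ W.image g := fun z hz => by
    rw [mem_image_perm]
    by_contra h
    rw [hbW, Perm.inv_eq_iff_eq, hgab] at h
    exact hz h
  obtain ⟨u, hu, huf, huxy⟩ := hJ x (hmem x hx) y (hmem y hy)
  refine ⟨u, hu, fun z hz => ?_, huxy⟩
  rw [mem_singleton] at hz
  subst hz
  refine huf z ?_
  rw [mem_image_perm, hbW, Perm.inv_eq_iff_eq, hgab]

/-- Another translate through a point avoiding a given point. -/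
lemma exists_partner (hG : PrimAt G ∅) (h1 : ∀ a, TransAt G {a}) {Γ A : Finset α}
    (hk : 2 ≤ Γ.card) (hkn : 2 * Γ.card < Fintype.card α) (hA : A ∈ Tr G Γ) {a b : α}
    (ha : a ∈ A) (hb : b ∉ A) : ∃ B ∈ Tr G Γ, a ∈ B ∧ b ∉ B ∧ B ≠ A := by
  classical
  by_contra hcon
  push Not at hcon
  have hne : a ≠ b := fun e => hb (e ▸ ha)
  set P : α → Finset (Finset α) := fun z => (Tr G Γ).filter fun B => a ∈ B ∧ z ∉ B with hP
  have hPb : P b = {A} := by
    ext B
    simp only [hP, mem_filter, mem_singleton]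
    exact ⟨fun h => hcon B h.1 h.2.1 h.2.2, fun h => h ▸ ⟨hA, ha, hb⟩⟩
  have hAne : A.Nonempty := ⟨a, ha⟩
  have hAu : A ≠ univ := fun e => hb (e ▸ mem_univ b)
  obtain ⟨v, hvA, hva⟩ := exists_mem_ne (by rw [Tr_card hA]; omega) a
  obtain ⟨C, hC, haC, hvC⟩ := exists_separating hG (Γ := Γ)
    (card_pos.mp (by omega)) (fun e => by rw [e, card_univ] at hkn; omega) hva.symm
  have hCA : C ≠ A := fun e => hvC (e ▸ hvA)
  obtain ⟨z, hz⟩ : ∃ z, z ∉ A ∪ C := by
    by_contra h
    push Not at h
    have e : A ∪ C = univ := eq_univ_iff_forall.mpr h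
    have := card_union_le A C
    rw [e, card_univ, Tr_card hA, Tr_card hC] at this
    omega
  rw [mem_union, not_or] at hz
  have hza : z ≠ a := fun e => hz.1 (e ▸ ha)
  obtain ⟨g, hg, hga, hgzb⟩ := h1 a z b (by simpa using hza) (by simpa using hne.symm)
  have hga' := hga a (mem_singleton_self a)
  have hle : (P z).card ≤ (P b).card := by
    refine card_le_card_of_injOn (fun B => B.image g) ?_ ?_
    · intro B hB
      simp only [hP, mem_coe, mem_filter] at hB ⊢
      refine ⟨Tr_image hB.1 hg, mem_image.mpr ⟨a, hB.2.1, hga'⟩, ?_⟩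
      rw [mem_image_perm]
      rw [show g⁻¹ b = z from Perm.inv_eq_iff_eq.mpr hgzb.symm]
      exact hB.2.2
    · exact fun B _ B' _ e => image_injective g.injective e
  have htwo : ({A, C} : Finset (Finset α)) ⊆ P z := by
    intro B hB
    simp only [mem_insert, mem_singleton] at hB
    rcases hB with rfl | rfl
    · simp [hP, hA, ha, hz.1]
    · simp [hP, hC, haC, hz.2]
  have := card_le_card htwo
  rw [card_pair hCA.symm] at this
  rw [hPb, card_singleton] at hle
  omega

/-- Classes of a proper congruence fill at most half of the complement. -/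
lemma two_mul_class_le {S : Finset α} (hT : TransAt G S) {r : α → α → Prop} (hr : Cong G S r)
    (hp : Proper S r) {W : Finset α} (hW : ∀ z ∈ W, z ∉ S) (hall : ∀ x ∈ W, ∀ y ∈ W, r x y) :
    2 * W.card ≤ Fintype.card α - S.card := by
  classical
  rcases W.eq_empty_or_nonempty with rfl | ⟨c, hc⟩
  · simp
  obtain ⟨x, y, hx, hy, hxy⟩ := hp.2
  obtain ⟨z, hz, hcz⟩ : ∃ z, z ∉ S ∧ ¬ r c z := by
    by_contra h
    push Not at h
    exact hxy (hr.trans (hr.symm (h x hx)) (h y hy))
  obtain ⟨g, hg, hgS, hgcz⟩ := hT c z (hW c hc) hz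
  have hdis : Disjoint W (W.image g) := by
    rw [disjoint_left]
    intro u huW hu
    obtain ⟨w, hw, rfl⟩ := mem_image.mp hu
    have h1 := hr.smul hg hgS (hall c hc w hw)
    rw [hgcz] at h1
    exact hcz (hr.trans (hall c hc _ huW) (hr.symm h1))
  have hsub : W ∪ W.image g ⊆ Sᶜ := by
    intro u hu
    rw [mem_compl]
    rcases mem_union.mp hu with h | h
    · exact hW u h
    · obtain ⟨w, hw, rfl⟩ := mem_image.mp h
      exact (lift_mem hgS w).mp (hW w hw)
  have := card_le_card hsub
  rw [card_union_of_disjoint hdis, card_image_perm, card_compl] at this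
  omega

/-- A completion of `T ∪ {x, f}` for each `f` outside gives a bound on the outside. -/
lemma completion_bound {Γ T : Finset α} {s : ℕ} (hTs : T.card + 1 = s) (hT : ∀ z ∈ T, z ∉ Γ)
    (h : ∀ S : Finset α, S.card ≤ s → TransAt G S)
    (hcomp : ∀ R : Finset α, R.card = s + 1 → ∃ p ∉ R, Closed G Γ (insert p R))
    {x : α} (hx : x ∈ Γ) :
    ((univ : Finset α) \ (Γ ∪ T)).card + 1 ≤ Γ.card := by
  classical
  have hxT : x ∉ T := fun h => hT x h hx
  have hR : ∀ f ∈ (univ : Finset α) \ (Γ ∪ T),
      (insert f (insert x T)).card = s + 1 ∧ f ∉ insert x T := by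
    intro f hf
    simp only [mem_sdiff, mem_univ, true_and, mem_union, not_or] at hf
    have hfx : f ≠ x := fun e => hf.1 (e ▸ hx)
    have : f ∉ insert x T := by simp [hfx, hf.2]
    exact ⟨by rw [card_insert_of_notMem this, card_insert_of_notMem hxT]; omega, this⟩
  choose! p hp hpc using fun f hf => hcomp _ (hR f hf).1
  have hmaps : ∀ f ∈ (univ : Finset α) \ (Γ ∪ T), p f ∈ Γ.erase x := by
    intro f hf
    have hfΓ : f ∉ Γ := by simp only [mem_sdiff, mem_union, not_or] at hf; exact hf.2.1
    have := completion_mem hT hx hfΓ (hpc f hf)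
    exact mem_erase.mpr ⟨this.2, this.1⟩
  have hinj : Set.InjOn p ((univ : Finset α) \ (Γ ∪ T) : Finset α) := by
    intro f hf f' hf' e
    rw [mem_coe] at hf hf'
    by_contra hne
    -- then `f, f'` are not separated, so they close `T ∪ {x}`, which `Γ` contradicts
    have hsep : ∀ u v, u ∈ (univ : Finset α) \ (Γ ∪ T) → v ∈ (univ : Finset α) \ (Γ ∪ T) →
        p u = p v → ∀ A ∈ Tr G Γ, (∀ z ∈ insert x T, z ∉ A) → u ∈ A → v ∈ A := by
      intro u v hu hv huv A hA hd huA
      have h1 : p u ∈ A := (hpc u hu).not_separated (mem_insert_of_mem (mem_insert_self _ _)) hA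
        (fun z hz hz1 hz2 => by
          rcases mem_insert.mp hz with rfl | hz
          · exact absurd rfl hz2
          rcases mem_insert.mp hz with rfl | hz
          · exact absurd rfl hz1
          exact hd z hz) huA
      rw [huv] at h1
      exact (hpc v hv).not_separated (mem_insert_self _ _) hA
        (fun z hz hz1 hz2 => by
          rcases mem_insert.mp hz with rfl | hz
          · exact absurd rfl hz1
          rcases mem_insert.mp hz with rfl | hz
          · exact absurd rfl hz2
          exact hd z hz) h1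
    have hcl := closed_of_not_separated (S := insert x T) (s := s)
      (by rw [card_insert_of_notMem hxT]; omega) h hne (hR f hf).2 (hR f' hf').2
      (hsep f f' hf hf' e)
    have hfΓ : f ∉ Γ := by simp only [mem_sdiff, mem_union, not_or] at hf; exact hf.2.1
    have hf'Γ : f' ∉ Γ := by simp only [mem_sdiff, mem_union, not_or] at hf'; exact hf'.2.1
    exact hf'Γ (completion_mem hT hx hfΓ hcl).1
  have := card_le_card_of_injOn p hmaps hinj
  rw [card_erase_of_mem hx] at this
  have := card_pos.mpr ⟨x, hx⟩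
  omega

/-- The point stabilizers are primitive. -/
theorem primAt_singleton (hG : PrimAt G ∅) {Γ : Finset α} (hΓ : IsJordan G Γ)
    (hk : 2 ≤ Γ.card) (hkn : 2 * Γ.card < Fintype.card α) (a : α) : PrimAt G {a} := by
  classical
  have h1 : ∀ b, TransAt G {b} := transAt_singleton hG hΓ hk (by omega)
  refine ⟨h1 a, fun r hr hp => ?_⟩
  have hall : ∀ S : Finset α, S.card ≤ 1 → TransAt G S := by
    intro S hS
    rcases (show S.card = 0 ∨ S.card = 1 by omega) with h | h
    · rw [card_eq_zero.mp h]; exact hG.1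
    · obtain ⟨b, rfl⟩ := card_eq_one.mp h; exact h1 b
  obtain ⟨W, hW, hmax⟩ := Finset.exists_max_image ((univ : Finset (Finset α)).filter fun W =>
    IsJordan G W ∧ 2 ≤ W.card ∧ 2 * W.card < Fintype.card α) card ⟨Γ, by simp [hΓ, hk, hkn]⟩
  simp only [mem_filter, mem_univ, true_and] at hW hmax
  obtain ⟨hWJ, hW2, hWn⟩ := hW
  have hsat : ∀ A ∈ Tr G W, (∀ z ∈ ({a} : Finset α), z ∉ A) → ∀ x ∈ A, ∀ y, r x y → y ∈ A := by
    intro A hA hd
    refine (hr.inside_or_saturated (Tr_jordan hWJ hA) hd).resolve_left fun hin => ?_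
    have hAc := Tr_card hA
    obtain ⟨c, hc⟩ := card_pos.mp (show 0 < A.card by omega)
    obtain ⟨B, hB, hcB, haB, hBA⟩ :=
      exists_partner hG h1 hW2 hWn hA hc (hd a (mem_singleton_self a))
    have hBc := Tr_card hB
    have hdU : ∀ z ∈ ({a} : Finset α), z ∉ A ∪ B := by
      intro z hz
      rw [mem_union, not_or]
      exact ⟨hd z hz, by rw [mem_singleton] at hz; exact hz ▸ haB⟩
    have hUJ := (Tr_jordan hWJ hA).union (Tr_jordan hWJ hB) hc hcB
    have hAU : A.card < (A ∪ B).card := card_lt_card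
      ((ssubset_iff_of_subset subset_union_left).mpr (by
        by_contra h
        push Not at h
        exact hBA (eq_of_subset_of_card_le (fun z hz => h z (mem_union_right _ hz)) (by omega))))
    have hU : Fintype.card α ≤ 2 * (A ∪ B).card := by
      by_contra h
      have := hmax (A ∪ B) ⟨hUJ, by omega, by omega⟩
      omega
    have hcl : ∀ V : Finset α, (∀ z ∈ V, z ∉ ({a} : Finset α)) →
        (∀ x ∈ V, ∀ y ∈ V, r x y) → 2 * V.card ≤ Fintype.card α - 1 := by
      intro V hV hVr
      simpa using two_mul_class_le (h1 a) hr hp hV hVr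
    rcases hr.inside_or_saturated hUJ hdU with hUin | hUsat
    · have := hcl (A ∪ B) (fun z hz h => hdU z h hz) hUin
      have := Fintype.card_pos_iff.mpr ⟨a⟩
      omega
    · rcases hr.inside_or_saturated (Tr_jordan hWJ hB)
        (fun z hz => by rw [mem_singleton] at hz; exact hz ▸ haB) with hBin | hBsat
      · have hUr : ∀ u ∈ A ∪ B, r c u := by
          intro u hu
          rcases mem_union.mp hu with h | h
          exacts [hin c hc u h, hBin c hcB u h]
        have := hcl (A ∪ B) (fun z hz h => hdU z h hz)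
          (fun u hu v hv => hr.trans (hr.symm (hUr u hu)) (hUr v hv))
        have := Fintype.card_pos_iff.mpr ⟨a⟩
        omega
      · exact hBA (eq_of_subset_of_card_le (fun z hz => hBsat c hcB z (hin c hc z hz))
          (by omega)).symm
  obtain ⟨x, hx⟩ := card_pos.mp (show 0 < W.card by omega)
  have := completion_bound (G := G) (Γ := W) (T := ∅) (s := 1) rfl (by simp) hall
    (exists_completion (card_singleton a) hall hr hp hsat) hx
  rw [union_empty, ← compl_eq_univ_sdiff, card_compl] at this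
  omega

end Cfsg.Agent.Marggraf
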