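import Mathlib

/-!
# Two counting facts
-/

set_option autoImplicit false

open Finset

namespace Cfsg.Agent.Marggraf

/-- In a group of twice odd order at most half of the elements, plus one, square to one. -/
lemma card_sq_eq_one_le {X : Type*} [Group X] [Fintype X] [DecidableEq X]
    (h2 : Fintype.card X % 4 = 2) :
    ((univ : Finset X).filter fun h => h * h = 1).card ≤ Fintype.card X / 2 + 1 := by
  classical
  let χ : X →* ℤˣ := Equiv.Perm.sign.comp (MulAction.toPermHom X X)
  have hinv : ∀ h : X, h * h = 1 → h ≠ 1 → χ h = -1 := by
    intro h hh h1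
    set p := MulAction.toPermHom X X h with hp
    have happ : ∀ x, p x = h * x := fun x => rfl
    have hsupp : p.support = univ := by
      ext x
      simpa [happ] using h1
    have hord : orderOf p = 2 := by
      rw [orderOf_eq_prime_iff]
      refine ⟨?_, fun e => h1 ?_⟩
      · rw [hp, ← map_pow, pow_two, hh, map_one]
      · have := congrArg (fun q : Equiv.Perm X => q 1) e
        simpa [happ] using this
    obtain ⟨m, hm⟩ := Equiv.Perm.cycleType_prime_order (hord ▸ Nat.prime_two)
    rw [hord] at hm
    have hsum := Equiv.Perm.sum_cycleType p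
    rw [hm, Multiset.sum_replicate, smul_eq_mul, hsupp, card_univ] at hsum
    change Equiv.Perm.sign p = -1
    rw [Equiv.Perm.sign_of_cycleType, hm, Multiset.sum_replicate, Multiset.card_replicate,
      smul_eq_mul]
    refine Odd.neg_one_pow ⟨(3 * (m + 1) - 1) / 2, ?_⟩
    omega
  have hmain := χ.ker.card_mul_index
  have hidx : χ.ker.index ≤ 2 := by
    rw [Subgroup.index_ker, Nat.card_eq_fintype_card]
    exact (Fintype.card_subtype_le _).trans (le_of_eq Fintype.card_units_int)
  have hsub : ((univ : Finset X).filter fun h => h * h = 1).card + ((univ : Finset X).filter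
      fun h => h ∈ χ.ker).card ≤ Fintype.card X + 1 := by
    rw [← card_union_add_card_inter, ← card_univ (α := X)]
    refine Nat.add_le_add (card_le_univ _) (card_le_one.mpr fun u hu v hv => ?_)
    have key : ∀ w, w ∈ ((univ : Finset X).filter fun h => h * h = 1) ∩
        ((univ : Finset X).filter fun h => h ∈ χ.ker) → w = 1 := by
      intro w hw
      simp only [mem_inter, mem_filter, mem_univ, true_and, MonoidHom.mem_ker] at hw
      by_contra h
      rw [hinv w hw.1 h] at hw
      exact absurd hw.2 (by decide)
    rw [key u hu, key v hv]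
  have hker : Nat.card χ.ker = ((univ : Finset X).filter fun h => h ∈ χ.ker).card := by
    rw [Nat.card_eq_fintype_card, Fintype.card_subtype]
  rw [hker, Nat.card_eq_fintype_card] at hmain
  have := Nat.mul_le_mul_left ((univ : Finset X).filter fun h => h ∈ χ.ker).card hidx
  omega

/-- A fixed point free involutive map of a finset makes its cardinality even. -/
lemma even_card_of_involution {β : Type*} (s : Finset β) (f : β → β) (hmem : ∀ a ∈ s, f a ∈ s)
    (hinv : ∀ a ∈ s, f (f a) = a) (hne : ∀ a ∈ s, f a ≠ a) : Even s.card := by
  have h : ((s.card : ℕ) : ZMod 2) = 0 := by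
    rw [card_eq_sum_ones, Nat.cast_sum]
    refine sum_involution (fun a _ => f a) ?_ ?_ hmem hinv
    · intro a _; decide
    · intro a ha _; exact hne a ha
  rwa [ZMod.natCast_eq_zero_iff_even] at h

end Cfsg.Agent.Marggraf
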