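import Mathlib

/-!
# Jordan sets of permutation groups: basic notions

Everything is phrased for a subgroup `G` of `Perm α` and finite sets.
-/

set_option autoImplicit false

open Finset Equiv

namespace Cfsg.Agent.Marggraf

variable {α : Type*} [DecidableEq α]

/-- `G` has elements mapping any point outside `S` to any other, fixing `S` pointwise. -/
def TransAt (G : Subgroup (Perm α)) (S : Finset α) : Prop :=
  ∀ x y : α, x ∉ S → y ∉ S → ∃ g ∈ G, (∀ z ∈ S, g z = z) ∧ g x = y

/-- An equivalence on the complement of `S` invariant under the pointwise stabilizer. -/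
structure Cong (G : Subgroup (Perm α)) (S : Finset α) (r : α → α → Prop) : Prop where
  refl : ∀ x, r x x
  symm : ∀ {x y}, r x y → r y x
  trans : ∀ {x y z}, r x y → r y z → r x z
  outside : ∀ {x y}, r x y → x ≠ y → x ∉ S
  smul : ∀ {g}, g ∈ G → (∀ z ∈ S, g z = z) → ∀ {x y}, r x y → r (g x) (g y)

lemma Cong.outside' {G : Subgroup (Perm α)} {S : Finset α} {r : α → α → Prop} (h : Cong G S r)
    {x y : α} (hxy : r x y) (hne : x ≠ y) : y ∉ S :=
  h.outside (h.symm hxy) hne.symm

/-- The congruence is neither trivial nor total. -/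
def Proper (S : Finset α) (r : α → α → Prop) : Prop :=
  (∃ x y, r x y ∧ x ≠ y) ∧ ∃ x y, x ∉ S ∧ y ∉ S ∧ ¬ r x y

/-- The pointwise stabilizer of `S` is primitive on the complement. -/
def PrimAt (G : Subgroup (Perm α)) (S : Finset α) : Prop :=
  TransAt G S ∧ ∀ r, Cong G S r → ¬ Proper S r

/-- `Γ` is a Jordan set. -/
def IsJordan (G : Subgroup (Perm α)) (Γ : Finset α) : Prop :=
  ∀ x ∈ Γ, ∀ y ∈ Γ, ∃ g ∈ G, (∀ z ∉ Γ, g z = z) ∧ g x = y

variable {G : Subgroup (Perm α)}

lemma apply_mem_iff {g : Perm α} {Γ : Finset α} (h : ∀ z ∉ Γ, g z = z) (x : α) :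
    g x ∈ Γ ↔ x ∈ Γ := by
  constructor
  · intro hx
    by_contra hn
    rw [h x hn] at hx
    exact hn hx
  · intro hx
    by_contra hn
    have := g.injective (h (g x) hn)
    exact hn (this.symm ▸ hx)

lemma mem_image_perm {g : Perm α} {A : Finset α} {x : α} : x ∈ A.image g ↔ g⁻¹ x ∈ A := by
  rw [mem_image]
  constructor
  · rintro ⟨a, ha, rfl⟩; simpa using ha
  · exact fun h => ⟨g⁻¹ x, h, by simp⟩

lemma card_image_perm (g : Perm α) (A : Finset α) : (A.image g).card = A.card :=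
  card_image_of_injective _ g.injective

lemma image_image_perm (g h : Perm α) (A : Finset α) : (A.image h).image g = A.image (g * h) := by
  rw [image_image]; rfl

lemma IsJordan.image {Γ : Finset α} (hΓ : IsJordan G Γ) {g : Perm α} (hg : g ∈ G) :
    IsJordan G (Γ.image g) := by
  intro x hx y hy
  rw [mem_image_perm] at hx hy
  obtain ⟨u, hu, hfix, hxy⟩ := hΓ _ hx _ hy
  refine ⟨g * u * g⁻¹, G.mul_mem (G.mul_mem hg hu) (G.inv_mem hg), fun z hz => ?_, ?_⟩
  · rw [mem_image_perm] at hz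
    rw [Perm.mul_apply, Perm.mul_apply, hfix _ hz]; simp
  · rw [Perm.mul_apply, Perm.mul_apply, hxy]; simp

lemma IsJordan.union {Γ Δ : Finset α} (hΓ : IsJordan G Γ) (hΔ : IsJordan G Δ) {c : α}
    (hcΓ : c ∈ Γ) (hcΔ : c ∈ Δ) : IsJordan G (Γ ∪ Δ) := by
  have key : ∀ x ∈ Γ ∪ Δ, ∃ g ∈ G, (∀ z ∉ Γ ∪ Δ, g z = z) ∧ g x = c := by
    intro x hx
    rcases mem_union.mp hx with h | h
    · obtain ⟨g, hg, hf, he⟩ := hΓ x h c hcΓ
      exact ⟨g, hg, fun z hz => hf z fun h' => hz (mem_union_left _ h'), he⟩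
    · obtain ⟨g, hg, hf, he⟩ := hΔ x h c hcΔ
      exact ⟨g, hg, fun z hz => hf z fun h' => hz (mem_union_right _ h'), he⟩
  intro x hx y hy
  obtain ⟨g, hg, hf, he⟩ := key x hx
  obtain ⟨h, hh, hf', he'⟩ := key y hy
  refine ⟨h⁻¹ * g, G.mul_mem (G.inv_mem hh) hg, fun z hz => ?_, ?_⟩
  · rw [Perm.mul_apply, hf z hz, Perm.inv_eq_iff_eq, hf' z hz]
  · rw [Perm.mul_apply, he, Perm.inv_eq_iff_eq, he']

/-- A Jordan set avoiding `S` lies in one class or is a union of classes. -/
lemma Cong.inside_or_saturated {S Γ : Finset α} {r : α → α → Prop} (hr : Cong G S r)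
    (hΓ : IsJordan G Γ) (hd : ∀ z ∈ S, z ∉ Γ) :
    (∀ x ∈ Γ, ∀ y ∈ Γ, r x y) ∨ ∀ x ∈ Γ, ∀ y, r x y → y ∈ Γ := by
  by_cases h : ∀ x ∈ Γ, ∀ y, r x y → y ∈ Γ
  · exact .inr h
  push Not at h
  obtain ⟨x, hx, y, hxy, hy⟩ := h
  left
  have key : ∀ z ∈ Γ, r z y := by
    intro z hz
    obtain ⟨g, hg, hf, he⟩ := hΓ x hx z hz
    have := hr.smul hg (fun w hw => hf w (hd w hw)) hxy
    rwa [he, hf y hy] at this
  exact fun u hu v hv => hr.trans (key u hu) (hr.symm (key v hv))

section Sets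

variable [Fintype α]

/-- Transitivity of all stabilizers of fewer than `m` points gives prescribed images of `m`. -/
lemma exists_map_of_transAt {m : ℕ} (h : ∀ S : Finset α, S.card < m → TransAt G S) :
    ∀ Q : Finset α, Q.card ≤ m → ∀ f : α → α, Set.InjOn f Q →
      ∃ g ∈ G, ∀ x ∈ Q, g x = f x := by
  intro Q
  induction Q using Finset.induction with
  | empty => exact fun _ _ _ => ⟨1, G.one_mem, by simp⟩
  | @insert a Q ha ih =>
    intro hQ f hf
    rw [card_insert_of_notMem ha] at hQ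
    obtain ⟨g, hg, hgQ⟩ := ih (by omega) f (hf.mono (by simp))
    have hcard : (Q.image f).card < m := lt_of_le_of_lt card_image_le (by omega)
    have h1 : g a ∉ Q.image f := by
      rw [mem_image]
      rintro ⟨x, hx, hxa⟩
      rw [← hgQ x hx] at hxa
      exact ha (g.injective hxa ▸ hx)
    have h2 : f a ∉ Q.image f := by
      rw [mem_image]
      rintro ⟨x, hx, hxa⟩
      have : x = a := hf (by simp [hx]) (by simp) hxa
      exact ha (this ▸ hx)
    obtain ⟨u, hu, huf, hua⟩ := h _ hcard (g a) (f a) h1 h2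
    refine ⟨u * g, G.mul_mem hu hg, fun x hx => ?_⟩
    rcases mem_insert.mp hx with rfl | hx
    · exact hua
    · rw [Perm.mul_apply, hgQ x hx]
      exact huf _ (mem_image_of_mem f hx)

/-- Set transitivity. -/
lemma exists_image_eq {m : ℕ} (h : ∀ S : Finset α, S.card < m → TransAt G S) (Q Q' : Finset α)
    (hQ : Q.card ≤ m) (he : Q.card = Q'.card) : ∃ g ∈ G, Q.image g = Q' := by
  let e := Q.equivOfCardEq he
  obtain ⟨g, hg, hgQ⟩ := exists_map_of_transAt h Q hQ
    (fun x => if hx : x ∈ Q then (e ⟨x, hx⟩ : α) else x) (by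
      intro x hx y hy hxy
      simp only [mem_coe] at hx hy
      simp only [dif_pos hx, dif_pos hy] at hxy
      exact Subtype.ext_iff.mp (e.injective (Subtype.ext hxy)))
  refine ⟨g, hg, eq_of_subset_of_card_le ?_ (by rw [card_image_perm]; omega)⟩
  intro y hy
  obtain ⟨x, hx, rfl⟩ := mem_image.mp hy
  rw [hgQ x hx, dif_pos hx]
  exact Subtype.prop _

lemma isMultiplyPretransitive_of_transAt {m : ℕ}
    (h : ∀ S : Finset α, S.card < m → TransAt G S) :
    MulAction.IsMultiplyPretransitive G α m := by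
  classical
  refine ⟨fun e e' => ?_⟩
  obtain ⟨g, hg, hgQ⟩ := exists_map_of_transAt h (univ.map e) (by simp)
    (fun x => if hx : ∃ i, e i = x then e' hx.choose else x) (by
      intro x hx y hy hxy
      simp only [coe_map, coe_univ, Set.image_univ, Set.mem_range] at hx hy
      simp only [dif_pos hx, dif_pos hy] at hxy
      rw [← hx.choose_spec, ← hy.choose_spec, e'.injective hxy])
  refine ⟨⟨g, hg⟩, ?_⟩
  ext i
  have hx : ∃ j, e j = e i := ⟨i, rfl⟩
  change g (e i) = e' i
  rw [hgQ (e i) (by simp), dif_pos hx, e.injective hx.choose_spec]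

open Classical in
/-- The translates of `Γ`. -/
noncomputable def Tr (G : Subgroup (Perm α)) (Γ : Finset α) : Finset (Finset α) :=
  univ.filter fun A => ∃ g ∈ G, Γ.image g = A

lemma mem_Tr {Γ A : Finset α} : A ∈ Tr G Γ ↔ ∃ g ∈ G, Γ.image g = A := by simp [Tr]

lemma self_mem_Tr (Γ : Finset α) : Γ ∈ Tr G Γ := mem_Tr.mpr ⟨1, G.one_mem, by simp⟩

lemma Tr_image {Γ A : Finset α} (hA : A ∈ Tr G Γ) {g : Perm α} (hg : g ∈ G) :
    A.image g ∈ Tr G Γ := by
  obtain ⟨u, hu, rfl⟩ := mem_Tr.mp hA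
  exact mem_Tr.mpr ⟨g * u, G.mul_mem hg hu, (image_image_perm g u Γ).symm⟩

lemma Tr_card {Γ A : Finset α} (hA : A ∈ Tr G Γ) : A.card = Γ.card := by
  obtain ⟨u, hu, rfl⟩ := mem_Tr.mp hA
  exact card_image_perm u Γ

lemma Tr_jordan {Γ A : Finset α} (hΓ : IsJordan G Γ) (hA : A ∈ Tr G Γ) : IsJordan G A := by
  obtain ⟨u, hu, rfl⟩ := mem_Tr.mp hA
  exact hΓ.image hu

open Classical in
lemma avoid_card_eq {Γ P P' : Finset α} {g : Perm α} (hg : g ∈ G) (h : P.image g = P') :
    ((Tr G Γ).filter fun A => ∀ z ∈ P, z ∉ A).card =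
      ((Tr G Γ).filter fun A => ∀ z ∈ P', z ∉ A).card := by
  refine card_bij (fun A _ => A.image g) ?_ ?_ ?_
  · intro A hA
    rw [mem_filter] at hA ⊢
    refine ⟨Tr_image hA.1 hg, fun z hz hzA => ?_⟩
    rw [← h, mem_image_perm] at hz
    rw [mem_image_perm] at hzA
    exact hA.2 _ hz hzA
  · intro A _ B _ hAB
    exact image_injective g.injective hAB
  · intro B hB
    rw [mem_filter] at hB
    refine ⟨B.image (g⁻¹ : Perm α), ?_, by simp [image_image_perm]⟩
    rw [mem_filter]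
    refine ⟨Tr_image hB.1 (G.inv_mem hg), fun z hz hzA => ?_⟩
    rw [mem_image_perm, inv_inv] at hzA
    exact hB.2 _ (h ▸ mem_image_of_mem g hz) hzA

/-- A translate containing one given point and not the other. -/
lemma exists_separating (hG : PrimAt G ∅) {Γ : Finset α} (hne : Γ.Nonempty) (hlt : Γ ≠ univ)
    {a b : α} (hab : a ≠ b) : ∃ A ∈ Tr G Γ, a ∈ A ∧ b ∉ A := by
  classical
  by_contra hcon
  push Not at hcon
  set P : α → Finset (Finset α) := fun x => (Tr G Γ).filter fun A => x ∈ A with hP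
  have hcard : ∀ x y, (P x).card = (P y).card := by
    intro x y
    obtain ⟨g, hg, -, hgxy⟩ := hG.1 x y (notMem_empty _) (notMem_empty _)
    refine card_bij (fun A _ => A.image g) ?_ (fun _ _ _ _ e => image_injective g.injective e) ?_
    · intro A hA
      simp only [hP, mem_filter] at hA ⊢
      exact ⟨Tr_image hA.1 hg, mem_image.mpr ⟨x, hA.2, hgxy⟩⟩
    · intro B hB
      simp only [hP, mem_filter] at hB
      refine ⟨B.image (g⁻¹ : Perm α), ?_, by simp [image_image_perm]⟩
      simp only [hP, mem_filter]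
      exact ⟨Tr_image hB.1 (G.inv_mem hg), mem_image.mpr ⟨y, hB.2, by simp [← hgxy]⟩⟩
  have hr : Cong G ∅ (fun x y => P x = P y) := by
    refine ⟨fun _ => rfl, Eq.symm, Eq.trans, fun _ _ => notMem_empty _, fun {g} hg _ x y h => ?_⟩
    ext A
    have key : ∀ u, A ∈ P (g u) ↔ A.image (g⁻¹ : Perm α) ∈ P u := by
      intro u
      simp only [hP, mem_filter, mem_image_perm, inv_inv]
      constructor
      · exact fun h => ⟨Tr_image h.1 (G.inv_mem hg), h.2⟩
      · intro h
        refine ⟨?_, h.2⟩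
        simpa [image_image_perm] using Tr_image h.1 hg
    rw [key x, key y, h]
  refine hG.2 _ hr ⟨⟨a, b, ?_, hab⟩, ?_⟩
  · refine eq_of_subset_of_card_le (fun A hA => ?_) (hcard b a).le
    simp only [hP, mem_filter] at hA ⊢
    exact ⟨hA.1, hcon A hA.1 hA.2⟩
  · obtain ⟨x, hx⟩ := hne
    obtain ⟨y, hy⟩ : ∃ y, y ∉ Γ := by
      by_contra h
      push Not at h
      exact hlt (eq_univ_iff_forall.mpr h)
    refine ⟨x, y, notMem_empty _, notMem_empty _, fun h => hy ?_⟩
    have : Γ ∈ P x := by simp [hP, self_mem_Tr, hx]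
    rw [h] at this
    simp only [hP, mem_filter] at this
    exact this.2

end Sets

end Cfsg.Agent.Marggraf
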