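import Cfsg.Agent.Lib.Perm.Marggraf.Tight
import Cfsg.Agent.Lib.Perm.SmallSupport

/-!
# Marggraf's theorem

A primitive group with a Jordan set of size less than half the degree contains a three cycle.
-/

set_option autoImplicit false

open Finset Equiv

namespace Cfsg.Agent.Marggraf

universe u

lemma threeCycle_of_alternating {α : Type u} [DecidableEq α] [Fintype α]
    {G : Subgroup (Perm α)} (h3 : 3 ≤ Fintype.card α) (hA : alternatingGroup α ≤ G) :
    ∃ g ∈ G, g.IsThreeCycle := by
  obtain ⟨T, -, hT⟩ := exists_subset_card_eq (s := (univ : Finset α))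
    (show 3 ≤ (univ : Finset α).card by simpa)
  obtain ⟨a, b, c, hab, hac, hbc, -⟩ := card_eq_three.mp hT
  have h := Perm.isThreeCycle_swap_mul_swap_same hab hac hbc
  exact ⟨_, hA h.mem_alternatingGroup, h⟩

theorem exists_threeCycle : ∀ (n : ℕ) {α : Type u} [DecidableEq α] [Fintype α]
    (G : Subgroup (Perm α)) (Γ : Finset α), Fintype.card α = n → PrimAt G ∅ → IsJordan G Γ →
    2 ≤ Γ.card → 2 * Γ.card < n → ∃ g ∈ G, g.IsThreeCycle := by
  intro n
  induction n using Nat.strong_induction_on with
  | _ n ih =>
    intro α _ _ G Γ hn hG hΓ hk hkn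
    classical
    have hprim1 : ∀ a, PrimAt G {a} := primAt_singleton hG hΓ hk (by omega)
    by_cases hloose : 2 * Γ.card + 1 < n
    · -- induction in the point stabilizer
      obtain ⟨a, ha⟩ := card_pos.mp (show 0 < Γᶜ.card by rw [card_compl]; omega)
      rw [mem_compl] at ha
      have hd : ∀ z ∈ ({a} : Finset α), z ∉ Γ := fun z hz => by
        rw [mem_singleton] at hz; exact hz ▸ ha
      have hcard : Fintype.card {x : α // x ∉ ({a} : Finset α)} = n - 1 := by
        rw [Fintype.card_subtype]
        have : (univ.filter fun x => x ∉ ({a} : Finset α)) = univ.erase a := by ext; simp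
        rw [this, card_erase_of_mem (mem_univ a), card_univ, hn]
      obtain ⟨σ, hσ, h3⟩ := ih (n - 1) (by omega) (restrict G {a}) (Γ.subtype (· ∉ ({a} : Finset α)))
        hcard (primAt_restrict (hprim1 a)) (jordan_restrict hΓ hd)
        (by rw [card_subtype_disjoint hd]; exact hk) (by rw [card_subtype_disjoint hd]; omega)
      exact threeCycle_of_restrict hσ h3
    have hn' : Fintype.card α = 2 * Γ.card + 1 := by omega
    -- all stabilizers of few points are primitive
    have key : ∀ j, 1 ≤ j → 2 * (j - 1) ≤ Γ.card →
        (∀ S : Finset α, S.card ≤ j → TransAt G S) ∧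
          ∀ S : Finset α, S.card + 1 = j → PrimAt G S := by
      intro j
      induction j with
      | zero => omega
      | succ j ihj =>
        intro _ hj
        rcases Nat.eq_zero_or_pos j with rfl | hjpos
        · refine ⟨fun S hS => ?_, fun S hS => ?_⟩
          · rcases (show S.card = 0 ∨ S.card = 1 by omega) with h | h
            · rw [card_eq_zero.mp h]; exact hG.1
            · obtain ⟨b, rfl⟩ := card_eq_one.mp h; exact (hprim1 b).1
          · rw [card_eq_zero.mp (show S.card = 0 by omega)]; exact hG
        obtain ⟨htr, -⟩ := ihj hjpos (by omega)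
        have hP : ∀ S : Finset α, S.card = j → PrimAt G S := by
          intro S hS
          refine ⟨htr S hS.le, fun r hr hp => ?_⟩
          rcases (show j = 1 ∨ 2 ≤ j by omega) with rfl | h2
          · obtain ⟨b, rfl⟩ := card_eq_one.mp hS
            exact (hprim1 b).2 r hr hp
          · exact tight_false hΓ hk hn' h2 (by omega) hS htr hr hp
        refine ⟨fun S hS => ?_, fun S hS => hP S (by omega)⟩
        by_cases hSj : S.card ≤ j
        · exact htr S hSj
        obtain ⟨a, T, haT, rfl, hT⟩ := card_eq_succ.mp (show S.card = j + 1 by omega)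
        -- a Jordan set avoiding `T`
        obtain ⟨T', hT'F, hT'⟩ := exists_subset_card_eq (show j ≤ Γᶜ.card by
          rw [card_compl]; omega)
        obtain ⟨g, hg, hgi⟩ := exists_image_eq (m := j + 1) (fun S hS => htr S (by omega)) T' T
          (by omega) (by omega)
        have hd : ∀ z ∈ T, z ∉ Γ.image g := by
          intro z hz h
          rw [← hgi, mem_image_perm] at hz
          rw [mem_image_perm] at h
          exact (mem_compl.mp (hT'F hz)) h
        have hcard : Fintype.card {x : α // x ∉ T} = 2 * Γ.card + 1 - j := by
          rw [Fintype.card_subtype]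
          have : (univ.filter fun x => x ∉ T) = Tᶜ := by ext; simp
          rw [this, card_compl, hn', hT]
        exact transAt_of_restrict (a := ⟨a, haT⟩)
          (transAt_singleton (primAt_restrict (hP T hT)) (jordan_restrict (hΓ.image hg) hd)
            (by rw [card_subtype_disjoint hd, card_image_perm]; exact hk)
            (by rw [card_subtype_disjoint hd, card_image_perm, hcard]; omega) _)
    set j := Γ.card / 2 + 1 with hj
    obtain ⟨htr, -⟩ := key j (by omega) (by omega)
    have hmt : MulAction.IsMultiplyPretransitive G α (j + 1) :=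
      isMultiplyPretransitive_of_transAt fun S hS => htr S (by omega)
    obtain ⟨x, hx, y, hy, hxy⟩ := one_lt_card.mp (show 1 < Γ.card by omega)
    obtain ⟨g, hg, hgf, hgxy⟩ := hΓ x hx y hy
    have hg1 : g ≠ 1 := fun e => hxy (by rw [← hgxy, e, Perm.one_apply])
    have hsupp : g.support.card ≤ Γ.card := card_le_card fun z hz => by
      by_contra h
      exact Perm.mem_support.mp hz (hgf z h)
    exact threeCycle_of_alternating (by omega)
      (CfsgLib.SmallSupport.contains_alternating (k := j + 1) (by omega) (by omega) hmt hg hg1
        (by omega)).2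

end Cfsg.Agent.Marggraf
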