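import Cfsg.Agent.Lib.Perm.Marggraf.Main
import Cfsg.Agent.Lib.Perm.MinDegSmall

/-!
# Quasiprimitive groups with a small Jordan set
-/

set_option autoImplicit false

open Finset Equiv

namespace Cfsg.Agent.Marggraf

universe u

lemma primAt_of_isPreprimitive {K : Type*} {Q : Type*} [Group K] [MulAction K Q] [DecidableEq Q]
    (h : MulAction.IsPreprimitive K Q) : PrimAt (MulAction.toPermHom K Q).range ∅ := by
  refine ⟨fun x y _ _ => ?_, fun r hr hp => ?_⟩
  · obtain ⟨g, hg⟩ := h.toIsPretransitive.exists_smul_eq x y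
    exact ⟨_, ⟨g, rfl⟩, by simp, hg⟩
  · obtain ⟨⟨x, y, hxy, hne⟩, u, v, -, -, huv⟩ := hp
    have hsm : ∀ (g : K) {a b : Q}, r a b → r (g • a) (g • b) := fun g a b hab =>
      hr.smul (g := MulAction.toPermHom K Q g) ⟨g, rfl⟩ (by simp) hab
    have hB : MulAction.IsBlock K {z | r x z} := by
      rw [MulAction.isBlock_iff_smul_eq_or_disjoint]
      intro g
      by_cases hg : r x (g • x)
      · left
        ext w
        rw [Set.mem_smul_set_iff_inv_smul_mem]
        constructor
        · intro hw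
          have h1 := hsm g (show r x (g⁻¹ • w) from hw)
          rw [smul_inv_smul] at h1
          exact hr.trans hg h1
        · intro hw
          have h1 := hsm g⁻¹ (hr.trans (hr.symm hg) hw)
          rwa [inv_smul_smul] at h1
      · right
        rw [Set.disjoint_left]
        intro w hw hw'
        rw [Set.mem_smul_set_iff_inv_smul_mem] at hw
        have h1 := hsm g (show r x (g⁻¹ • w) from hw)
        rw [smul_inv_smul] at h1
        exact hg (hr.trans hw' (hr.symm h1))
    rcases h.isTrivialBlock_of_isBlock hB with hs | hu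
    · exact hne (hs (show x ∈ {z | r x z} from hr.refl x) (show y ∈ {z | r x z} from hxy))
    · have h1 : r x u := Set.eq_univ_iff_forall.mp hu u
      have h2 : r x v := Set.eq_univ_iff_forall.mp hu v
      exact huv (hr.trans (hr.symm h1) h2)

lemma threeCycle_eq {Q : Type*} [Fintype Q] [DecidableEq Q] {c : Perm Q} (hc : c.IsThreeCycle)
    {a : Q} (ha : c a ≠ a) :
    c = swap a (c (c a)) * swap a (c a) ∧ c (c a) ≠ a ∧ c (c a) ≠ c a := by
  have h3 : ∀ z, c (c (c z)) = z := fun z => by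
    have := congrArg (fun q : Perm Q => q z) (pow_orderOf_eq_one c)
    simpa [hc.orderOf, pow_succ, Perm.mul_apply] using this
  have h1 : c (c a) ≠ a := fun e => ha (by
    have := h3 a
    rwa [e] at this)
  have h2 : c (c a) ≠ c a := fun e => ha (c.injective e)
  have hsupp : ({a, c a, c (c a)} : Finset Q) = c.support := by
    refine eq_of_subset_of_card_le ?_ ?_
    · intro z hz
      simp only [mem_insert, mem_singleton] at hz
      rw [Perm.mem_support]
      rcases hz with rfl | rfl | rfl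
      · exact ha
      · exact h2
      · rw [h3]; exact h1.symm
    · rw [hc.card_support, card_eq_three.mpr ⟨a, c a, c (c a), ha.symm, h1.symm, h2.symm, rfl⟩]
  refine ⟨?_, h1, h2⟩
  ext z
  rw [Perm.mul_apply]
  by_cases hza : z = a
  · subst hza; rw [swap_apply_left, swap_apply_of_ne_of_ne ha h2.symm]
  by_cases hzb : z = c a
  · subst hzb; rw [swap_apply_right, swap_apply_left]
  by_cases hze : z = c (c a)
  · subst hze; rw [swap_apply_of_ne_of_ne h1 h2, swap_apply_right, h3]
  · have hz : z ∉ c.support := by rw [← hsupp]; simp [hza, hzb, hze]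
    rw [Perm.notMem_support] at hz
    rw [hz, swap_apply_of_ne_of_ne hza hzb, swap_apply_of_ne_of_ne hza hze]

/-- A subgroup containing one three cycle fixing `q` and invariant under the even permutations
fixing `q` contains all even permutations fixing `q`. -/
lemma even_fixing_le {Q : Type u} [Fintype Q] [DecidableEq Q] (P : Subgroup (Perm Q)) (q : Q)
    {c : Perm Q} (hc : c.IsThreeCycle) (hcq : c q = q) (hcP : c ∈ P)
    (hconj : ∀ π : Perm Q, Perm.sign π = 1 → π q = q → ∀ x ∈ P, π * x * π⁻¹ ∈ P)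
    {σ : Perm Q} (hσ : Perm.sign σ = 1) (hσq : σ q = q) : σ ∈ P := by
  have hcyc : ∀ d : Perm Q, d.IsThreeCycle → d q = q → d ∈ P := by
    intro d hd hdq
    obtain ⟨a, ha⟩ := card_pos.mp (show 0 < c.support.card by rw [hc.card_support]; omega)
    obtain ⟨a', ha'⟩ := card_pos.mp (show 0 < d.support.card by rw [hd.card_support]; omega)
    rw [Perm.mem_support] at ha ha'
    obtain ⟨hce, hc1, hc2⟩ := threeCycle_eq hc ha
    obtain ⟨hde, hd1, hd2⟩ := threeCycle_eq hd ha'
    have hqa : q ≠ a ∧ q ≠ c a ∧ q ≠ c (c a) := by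
      have h1 : q ≠ a := fun e => ha (e ▸ hcq)
      have h2 : q ≠ c a := fun e => h1 (c.injective (hcq.trans e))
      exact ⟨h1, h2, fun e => h2 (c.injective (hcq.trans e))⟩
    have hqa' : q ≠ a' ∧ q ≠ d a' ∧ q ≠ d (d a') := by
      have h1 : q ≠ a' := fun e => ha' (e ▸ hdq)
      have h2 : q ≠ d a' := fun e => h1 (d.injective (hdq.trans e))
      exact ⟨h1, h2, fun e => h2 (d.injective (hdq.trans e))⟩
    classical
    obtain ⟨π, -, hπ⟩ := exists_map_of_transAt (G := (⊤ : Subgroup (Perm Q)))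
      (m := ({q, a, c a, c (c a)} : Finset Q).card)
      (fun S _ x y hx hy => ⟨swap x y, trivial,
        fun z hz => swap_apply_of_ne_of_ne (fun e => hx (e ▸ hz)) (fun e => hy (e ▸ hz)),
        swap_apply_left x y⟩)
      {q, a, c a, c (c a)} le_rfl
      (fun z => if z = a then a' else if z = c a then d a' else if z = c (c a) then d (d a')
        else z) (by
        intro u hu v hv huv
        simp only [coe_insert, coe_singleton, Set.mem_insert_iff, Set.mem_singleton_iff] at hu hv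
        rcases hu with rfl | rfl | rfl | rfl <;> rcases hv with rfl | rfl | rfl | rfl <;>
          simp [hqa.1, hqa.2.1, hqa.2.2, ha, hc1, hc2, hqa'.1, hqa'.2.1, hqa'.2.2, ha', hd1, hd2,
            Ne.symm ha, Ne.symm hc1, Ne.symm hc2, Ne.symm ha', Ne.symm hd1, Ne.symm hd2,
            Ne.symm hqa.1, Ne.symm hqa.2.1, Ne.symm hqa.2.2, Ne.symm hqa'.1, Ne.symm hqa'.2.1,
            Ne.symm hqa'.2.2] at huv ⊢)
    have hπq : π q = q := by simpa [hqa.1, hqa.2.1, hqa.2.2] using hπ q (by simp)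
    have hπa : π a = a' := by simpa using hπ a (by simp)
    have hπb : π (c a) = d a' := by simpa [ha] using hπ (c a) (by simp)
    have hπe : π (c (c a)) = d (d a') := by simpa [hc1, hc2] using hπ (c (c a)) (by simp)
    set e := c (c a) with he
    set b := c a with hb
    have hdc : π * c * π⁻¹ = d := by
      rw [hde, ← hπe, ← hπb, ← hπa, swap_apply_apply, swap_apply_apply, hce]
      group
    rcases Int.units_eq_one_or (Perm.sign π) with hs | hs
    · rw [← hdc]; exact hconj π hs hπq c hcP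
    · have hab : a ≠ b := Ne.symm ha
      have hq : (π * swap a b) q = q := by
        rw [Perm.mul_apply, swap_apply_of_ne_of_ne hqa.1 hqa.2.1, hπq]
      have := hconj (π * swap a b) (by rw [map_mul, hs, Perm.sign_swap hab]; rfl) hq c⁻¹
        (P.inv_mem hcP)
      have he' : π * swap a b * c⁻¹ * (π * swap a b)⁻¹ = π * c * π⁻¹ := by
        rw [hce, mul_inv_rev, mul_inv_rev, swap_inv, swap_inv]
        simp only [← mul_assoc]
        rw [mul_assoc π (swap a b) (swap a b), swap_mul_self, mul_one]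
      rwa [he', hdc] at this
  set p : Q → Prop := fun z => z ≠ q with hp
  have hσp : ∀ z, p (σ z) ↔ p z := fun z =>
    ⟨fun h e => h (by rw [e, hσq]), fun h e => h (σ.injective (e.trans hσq.symm))⟩
  have hmem : σ.subtypePerm hσp ∈ alternatingGroup {z // p z} := by
    rw [Perm.mem_alternatingGroup, ← hσ]
    exact Perm.sign_subtypePerm σ hσp (fun z hz e => hz (by rw [e, hσq]))
  have hle : alternatingGroup {z // p z} ≤ P.comap Perm.ofSubtype := by
    rw [← Perm.closure_three_cycles_eq_alternating, Subgroup.closure_le]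
    intro d hd
    refine hcyc _ ?_ (Perm.ofSubtype_apply_of_not_mem _ (by simp [hp]))
    rw [Perm.IsThreeCycle, Perm.cycleType_ofSubtype]
    exact hd
  have := hle hmem
  rw [Subgroup.mem_comap, Perm.ofSubtype_subtypePerm hσp (fun z hz e => hz (by rw [e, hσq]))] at this
  exact this

/-- The quasiprimitive case of Marggraf's theorem. -/
theorem quasiprimitive_alternating {G : Type*} {Ω : Type u} [Group G] [Finite G] [MulAction G Ω]
    [FaithfulSMul G Ω] [Fintype Ω] [DecidableEq Ω]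
    (hqp : ∀ N : Subgroup G, N.Normal → N ≠ ⊥ → MulAction.IsPretransitive ↥N Ω)
    (Γ : Finset Ω) (hΓ1 : 1 < Γ.card) (hΓ2 : 2 * Γ.card < Fintype.card Ω)
    (hJ : ∀ x ∈ Γ, ∀ y ∈ Γ, ∃ g : G, (∀ z ∉ Γ, g • z = z) ∧ g • x = y) :
    alternatingGroup Ω ≤ (MulAction.toPermHom G Ω).range := by
  classical
  obtain ⟨x₁, hx₁, y₁, hy₁, hxy₁⟩ := one_lt_card.mp hΓ1
  obtain ⟨g₁, hg₁f, hg₁⟩ := hJ x₁ hx₁ y₁ hy₁
  have : Nontrivial Ω := ⟨⟨x₁, y₁, hxy₁⟩⟩
  have htop : (⊤ : Subgroup G) ≠ ⊥ := fun e => by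
    have : g₁ ∈ (⊥ : Subgroup G) := e ▸ Subgroup.mem_top g₁
    rw [Subgroup.mem_bot] at this
    exact hxy₁ (by rw [← hg₁, this, one_smul])
  have htrans : MulAction.IsPretransitive G Ω := ⟨fun u v => by
    obtain ⟨g, hg⟩ := (hqp ⊤ inferInstance htop).exists_smul_eq u v
    exact ⟨g, hg⟩⟩
  obtain ⟨α₀, hα₀⟩ := card_pos.mp (show 0 < Γᶜ.card by rw [card_compl]; omega)
  rw [mem_compl] at hα₀
  set H := MulAction.stabilizer G α₀ with hH
  have hHtop : H ≠ ⊤ := fun e => by
    obtain ⟨g, hg⟩ := htrans.exists_smul_eq α₀ x₁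
    have : g ∈ H := e ▸ Subgroup.mem_top g
    exact hα₀ ((MulAction.mem_stabilizer_iff.mp this).symm.trans hg ▸ hx₁)
  obtain ⟨M, hM, hHM⟩ := (eq_top_or_exists_le_coatom H).resolve_left hHtop
  haveI : Fintype (G ⧸ M) := Fintype.ofFinite _
  choose t ht using fun x => htrans.exists_smul_eq α₀ x
  let π : Ω → G ⧸ M := fun x => (t x : G ⧸ M)
  have hπ : ∀ (g : G) (x : Ω), π (g • x) = g • π x := by
    intro g x
    change ((t (g • x) : G) : G ⧸ M) = ((g * t x : G) : G ⧸ M)
    rw [QuotientGroup.eq]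
    apply hHM
    rw [hH, MulAction.mem_stabilizer_iff, mul_smul, mul_smul, ht, inv_smul_eq_iff, ht]
  have hπ0 : π α₀ = ((1 : G) : G ⧸ M) := by
    change ((t α₀ : G) : G ⧸ M) = _
    rw [QuotientGroup.eq, mul_one]
    exact M.inv_mem (hHM (MulAction.mem_stabilizer_iff.mpr (ht α₀)))
  have hfixM : ∀ m : G, m • ((1 : G) : G ⧸ M) = ((1 : G) : G ⧸ M) ↔ m ∈ M := by
    intro m
    change ((m * 1 : G) : G ⧸ M) = _ ↔ _
    rw [QuotientGroup.eq, mul_one, mul_one, inv_mem_iff]
  have hsurj : Function.Surjective π := by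
    intro q
    obtain ⟨g, rfl⟩ := QuotientGroup.mk_surjective q
    refine ⟨g • α₀, ?_⟩
    rw [hπ, hπ0]
    change ((g * 1 : G) : G ⧸ M) = _
    rw [mul_one]
  set φ := MulAction.toPermHom G (G ⧸ M) with hφ
  have hφapp : ∀ g q, φ g q = g • q := fun g q => rfl
  have hker : φ.ker = ⊥ := by
    by_contra hne
    obtain ⟨g, hg⟩ : ∃ g, g ∉ M := by
      by_contra h
      push Not at h
      exact hM.1 (eq_top_iff.mpr fun g _ => h g)
    obtain ⟨⟨n, hn⟩, hng⟩ := (hqp φ.ker inferInstance hne).exists_smul_eq α₀ (g • α₀)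
    have hnM : n ∈ M := by
      rw [← hfixM, ← hφapp, MonoidHom.mem_ker.mp hn]
      rfl
    have hgH : n⁻¹ * g ∈ H := by
      rw [hH, MulAction.mem_stabilizer_iff, mul_smul, inv_smul_eq_iff]
      exact hng.symm
    exact hg (by simpa using M.mul_mem hnM (hHM hgH))
  have hφinj : Function.Injective φ := (MonoidHom.ker_eq_bot_iff φ).mp hker
  -- the Jordan set is a union of fibres, at least two
  have hnotone : ¬ ∀ x ∈ Γ, ∀ y ∈ Γ, π x = π y := by
    intro h
    have hone : φ g₁ = 1 := by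
      ext q
      obtain ⟨w, rfl⟩ := hsurj q
      rw [hφapp, ← hπ, Perm.one_apply]
      by_cases hw : w ∈ Γ
      · refine h _ ?_ _ hw
        by_contra hn
        have e : g₁ • w = w := MulAction.injective g₁ (hg₁f _ hn)
        exact hn (by rw [e]; exact hw)
      · rw [hg₁f w hw]
    rw [← map_one φ] at hone
    exact hxy₁ (by rw [← hg₁, hφinj hone, one_smul])
  have hsat : ∀ x ∈ Γ, ∀ y, π y = π x → y ∈ Γ := by
    intro x hx y hxy
    by_contra hy
    apply hnotone
    have key : ∀ z ∈ Γ, π z = π y := by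
      intro z hz
      obtain ⟨g, hgf, hg⟩ := hJ x hx z hz
      rw [← hg, hπ, ← hxy, ← hπ, hgf y hy]
    exact fun u hu v hv => (key u hu).trans (key v hv).symm
  set Δ := Γ.image π with hΔ
  have hq0 : ((1 : G) : G ⧸ M) ∉ Δ := by
    rw [← hπ0, hΔ, mem_image]
    rintro ⟨x, hx, e⟩
    exact hα₀ (hsat x hx α₀ e.symm)
  have hfib : ∀ q q' : G ⧸ M, (univ.filter fun x => π x = q).card =
      (univ.filter fun x => π x = q').card := by
    intro q q'
    obtain ⟨g, rfl⟩ := MulAction.exists_smul_eq G q q'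
    refine card_bij (fun x _ => g • x) ?_ (fun _ _ _ _ e => MulAction.injective g e) ?_
    · intro x hx
      simp only [mem_filter, mem_univ, true_and] at hx ⊢
      rw [hπ, hx]
    · intro x hx
      simp only [mem_filter, mem_univ, true_and] at hx
      refine ⟨g⁻¹ • x, ?_, smul_inv_smul g x⟩
      simp only [mem_filter, mem_univ, true_and]
      rw [hπ, hx, inv_smul_smul]
  set b := (univ.filter fun x => π x = ((1 : G) : G ⧸ M)).card with hb
  have hn : Fintype.card Ω = Fintype.card (G ⧸ M) * b := by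
    rw [← card_univ, card_eq_sum_card_fiberwise (f := π) (t := univ) fun _ _ => mem_univ _,
      sum_congr rfl (fun q _ => hfib q _), sum_const, card_univ, smul_eq_mul]
  have hk : Γ.card = Δ.card * b := by
    rw [card_eq_sum_card_image π Γ, ← hΔ, sum_congr rfl (fun q hq => ?_), sum_const, smul_eq_mul]
    rw [hb, ← hfib q]
    congr 1
    ext x
    simp only [mem_filter, mem_univ, true_and, and_iff_right_iff_imp]
    intro hx
    rw [hΔ, mem_image] at hq
    obtain ⟨w, hw, e⟩ := hq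
    exact hsat w hw x (hx.trans e.symm)
  have hΔ2 : 2 ≤ Δ.card := by
    by_contra h
    exact hnotone fun u hu v hv => card_le_one.mp (show Δ.card ≤ 1 by omega) _
      (mem_image_of_mem π hu) _ (mem_image_of_mem π hv)
  have hΔn : 2 * Δ.card < Fintype.card (G ⧸ M) := by
    rw [hn, hk, ← mul_assoc] at hΓ2
    exact Nat.lt_of_mul_lt_mul_right hΓ2
  have hΔJ : IsJordan φ.range Δ := by
    intro p hp q hq
    obtain ⟨x, hx, rfl⟩ := mem_image.mp hp
    obtain ⟨y, hy, rfl⟩ := mem_image.mp hq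
    obtain ⟨g, hgf, hg⟩ := hJ x hx y hy
    refine ⟨φ g, ⟨g, rfl⟩, fun r hr => ?_, by rw [hφapp, ← hπ, hg]⟩
    obtain ⟨w, rfl⟩ := hsurj r
    rw [hφapp, ← hπ, hgf w fun hw => hr (mem_image_of_mem π hw)]
  have : Nontrivial (G ⧸ M) := Fintype.one_lt_card_iff_nontrivial.mp (by omega)
  have hprimQ : MulAction.IsPreprimitive G (G ⧸ M) := by
    rw [← MulAction.isCoatom_stabilizer_iff_preprimitive G ((1 : G) : G ⧸ M)]
    have : MulAction.stabilizer G ((1 : G) : G ⧸ M) = M := by
      ext m; exact hfixM m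
    rw [this]
    exact hM
  obtain ⟨c₀, hc₀, hc₀3⟩ := exists_threeCycle _ φ.range Δ rfl (primAt_of_isPreprimitive hprimQ)
    hΔJ hΔ2 hΔn
  have halt : alternatingGroup (G ⧸ M) ≤ φ.range := by
    let f : (G ⧸ M) →ₑ[fun k : G => (⟨φ k, k, rfl⟩ : φ.range)] (G ⧸ M) := ⟨id, fun k x => rfl⟩
    have hp : MulAction.IsPreprimitive φ.range (G ⧸ M) :=
      MulAction.IsPreprimitive.of_surjective (f := f) Function.surjective_id
    exact Perm.alternatingGroup_le_of_isPreprimitive_of_isThreeCycle_mem hp hc₀3 hc₀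
  -- conjugates of elements supported on `Γ` fix `α₀`
  let P : Subgroup G :=
    { carrier := {g | ∀ m ∈ M, m * g * m⁻¹ ∈ H}
      mul_mem' := fun {u v} hu hv m hm => by
        have : m * (u * v) * m⁻¹ = m * u * m⁻¹ * (m * v * m⁻¹) := by group
        rw [this]; exact H.mul_mem (hu m hm) (hv m hm)
      one_mem' := fun m _ => by simp
      inv_mem' := fun {u} hu m hm => by
        have : m * u⁻¹ * m⁻¹ = (m * u * m⁻¹)⁻¹ := by group
        rw [this]; exact H.inv_mem (hu m hm) }
  have hPconj : ∀ m ∈ M, ∀ u ∈ P, m * u * m⁻¹ ∈ P := by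
    intro m hm u hu m' hm'
    have : m' * (m * u * m⁻¹) * m'⁻¹ = m' * m * u * (m' * m)⁻¹ := by group
    rw [this]; exact hu _ (M.mul_mem hm' hm)
  have hXP : ∀ g : G, (∀ z ∉ Γ, g • z = z) → g ∈ P := by
    intro g hg m hm
    rw [hH, MulAction.mem_stabilizer_iff, mul_smul, mul_smul, hg, smul_inv_smul]
    intro hw
    apply hα₀
    refine hsat _ hw α₀ ?_
    rw [hπ, hπ0, eq_comm]
    exact (hfixM _).mpr (M.inv_mem hm)
  obtain ⟨p₁, hp₁, p₂, hp₂, hp12⟩ := one_lt_card.mp (show 1 < Δ.card by omega)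
  obtain ⟨x, hx, rfl⟩ := mem_image.mp hp₁
  obtain ⟨y, hy, rfl⟩ := mem_image.mp hp₂
  obtain ⟨g, hgf, hg⟩ := hJ x hx y hy
  obtain ⟨z, hz, w, hw, hzw⟩ := one_lt_card.mp
    (show 1 < (insert ((1 : G) : G ⧸ M) Δ)ᶜ.card by
      rw [card_compl, card_insert_of_notMem hq0]; omega)
  simp only [mem_compl, mem_insert, not_or] at hz hw
  have hxz : π x ≠ z := fun e => hz.2 (e ▸ hp₁)
  have hxw : π x ≠ w := fun e => hw.2 (e ▸ hp₁)
  have hτ := Perm.isThreeCycle_swap_mul_swap_same hxz hxw hzw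
  obtain ⟨s, hs⟩ := halt hτ.mem_alternatingGroup
  have hxq0 : π x ≠ ((1 : G) : G ⧸ M) := fun e => hq0 (e ▸ hp₁)
  have hsM : s ∈ M := by
    rw [← hfixM, ← hφapp, hs, Perm.mul_apply, swap_apply_of_ne_of_ne hxq0.symm (Ne.symm hw.1),
      swap_apply_of_ne_of_ne hxq0.symm (Ne.symm hz.1)]
  have hgq : ∀ q, q ∉ Δ → φ g q = q := by
    intro q hq
    obtain ⟨u, rfl⟩ := hsurj q
    rw [hφapp, ← hπ, hgf u fun hu => hq (mem_image_of_mem π hu)]
  have hcom := MinDegBabai.commutator_isThreeCycle (φ g) (φ s) (π x)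
    (by rw [hφapp, ← hπ, hg]; exact hp12.symm)
    (by rw [hs, Perm.mul_apply, swap_apply_left, swap_apply_of_ne_of_ne hxw.symm hzw.symm]
        exact hxw.symm)
    (by
      intro q hq1 hq2
      have hqΔ : q ∈ Δ := by by_contra h; exact hq1 (hgq q h)
      by_contra hne
      apply hq2
      rw [hs, Perm.mul_apply, swap_apply_of_ne_of_ne hne (fun e : q = w => hw.2 (e ▸ hqΔ)),
        swap_apply_of_ne_of_ne hne (fun e : q = z => hz.2 (e ▸ hqΔ))])
  have hcP : g * s * g⁻¹ * s⁻¹ ∈ P := by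
    have : g * s * g⁻¹ * s⁻¹ = g * (s * g⁻¹ * s⁻¹) := by group
    rw [this]
    exact P.mul_mem (hXP g hgf) (hPconj s hsM _ (P.inv_mem (hXP g hgf)))
  have hPM : ∀ u ∈ P, u ∈ H := fun u hu => by simpa using hu 1 M.one_mem
  have heven : ∀ {u : G}, u ∈ M → Perm.sign (φ u) = 1 → u ∈ H := by
    intro u hu hsu
    have hmem : φ u ∈ P.map φ := by
      refine even_fixing_le (P.map φ) ((1 : G) : G ⧸ M) hcom ?_ ?_ ?_ hsu ((hfixM u).mpr hu)
      · have hcM : g * s * g⁻¹ * s⁻¹ ∈ M := hHM (hPM _ hcP)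
        have h1 := (hfixM _).mpr hcM
        rw [← hφapp] at h1
        simpa only [map_mul, map_inv] using h1
      · exact ⟨_, hcP, by simp only [map_mul, map_inv]⟩
      · rintro ρ hρ hρq _ ⟨v, hv, rfl⟩
        obtain ⟨r, rfl⟩ := halt (Perm.mem_alternatingGroup.mpr hρ)
        exact ⟨r * v * r⁻¹, hPconj r ((hfixM r).mp hρq) v hv, by simp only [map_mul, map_inv]⟩
    obtain ⟨v, hv, hvu⟩ := hmem
    exact hφinj hvu ▸ hPM v hv
  set A := (alternatingGroup (G ⧸ M)).comap φ with hA
  have hAne : A ≠ ⊥ := by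
    intro e
    have hsA : s ∈ A := by rw [hA, Subgroup.mem_comap, hs]; exact hτ.mem_alternatingGroup
    rw [e, Subgroup.mem_bot] at hsA
    rw [hsA, map_one] at hs
    exact hτ.ne_one hs.symm
  have hMH : M ≤ H := by
    intro m hm
    obtain ⟨⟨a, ha⟩, ham⟩ := (hqp A inferInstance hAne).exists_smul_eq α₀ (m • α₀)
    have ham' : a⁻¹ * m ∈ H := by
      rw [hH, MulAction.mem_stabilizer_iff, mul_smul, inv_smul_eq_iff]
      exact ham.symm
    have haM : a ∈ M := by
      have := M.mul_mem hm (M.inv_mem (hHM ham'))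
      simpa using this
    simpa using H.mul_mem (heven haM (Perm.mem_alternatingGroup.mp (Subgroup.mem_comap.mp ha))) ham'
  have hprim : MulAction.IsPreprimitive G Ω := by
    rw [← MulAction.isCoatom_stabilizer_iff_preprimitive G α₀, ← hH, le_antisymm hHM hMH]
    exact hM
  set ψ := MulAction.toPermHom G Ω with hψ
  have hJ' : IsJordan ψ.range Γ := by
    intro x hx y hy
    obtain ⟨g, hgf, hg⟩ := hJ x hx y hy
    exact ⟨ψ g, ⟨g, rfl⟩, hgf, hg⟩
  obtain ⟨c, hc, hc3⟩ := exists_threeCycle _ ψ.range Γ rfl (primAt_of_isPreprimitive hprim)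
    hJ' (by omega) hΓ2
  let f : Ω →ₑ[fun k : G => (⟨ψ k, k, rfl⟩ : ψ.range)] Ω := ⟨id, fun k x => rfl⟩
  have hp : MulAction.IsPreprimitive ψ.range Ω :=
    MulAction.IsPreprimitive.of_surjective (f := f) Function.surjective_id
  exact Perm.alternatingGroup_le_of_isPreprimitive_of_isThreeCycle_mem hp hc3 hc

end Cfsg.Agent.Marggraf
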