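import Cfsg.Agent.Lib.Perm.Marggraf.Defs

/-!
# Closed sets cut out by the translates of a Jordan set
-/

set_option autoImplicit false

open Finset Equiv

namespace Cfsg.Agent.Marggraf

variable {α : Type*} [DecidableEq α] [Fintype α] {G : Subgroup (Perm α)}

/-- No translate of `Γ` meets `Q` in exactly one point. -/
def Closed (G : Subgroup (Perm α)) (Γ Q : Finset α) : Prop :=
  ∀ A ∈ Tr G Γ, ∀ p ∈ Q, p ∈ A → ∃ q ∈ Q, q ∈ A ∧ q ≠ p

lemma Closed.image {Γ Q : Finset α} (h : Closed G Γ Q) {g : Perm α} (hg : g ∈ G) :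
    Closed G Γ (Q.image g) := by
  intro A hA p hp hpA
  rw [mem_image_perm] at hp
  obtain ⟨q, hq, hqA, hqp⟩ := h (A.image (g⁻¹ : Perm α)) (Tr_image hA (G.inv_mem hg)) (g⁻¹ p) hp
    (mem_image.mpr ⟨p, hpA, rfl⟩)
  refine ⟨g q, mem_image_of_mem g hq, ?_, fun e => hqp ?_⟩
  · rwa [mem_image_perm, inv_inv] at hqA
  · rw [← e]; simp

open Classical in
/-- In a sufficiently transitive group all points of a set are met singly equally often. -/
lemma single_eq {Γ Q : Finset α} {m : ℕ} (h : ∀ S : Finset α, S.card < m → TransAt G S)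
    (hQ : Q.card ≤ m + 1) {p q : α} (hp : p ∈ Q) (hq : q ∈ Q) :
    ((Tr G Γ).filter fun A => p ∈ A ∧ ∀ z ∈ Q.erase p, z ∉ A).card =
      ((Tr G Γ).filter fun A => q ∈ A ∧ ∀ z ∈ Q.erase q, z ∉ A).card := by
  have key : ∀ u ∈ Q, ((Tr G Γ).filter fun A => u ∈ A ∧ ∀ z ∈ Q.erase u, z ∉ A).card +
      ((Tr G Γ).filter fun A => ∀ z ∈ Q, z ∉ A).card =
      ((Tr G Γ).filter fun A => ∀ z ∈ Q.erase u, z ∉ A).card := by
    intro u hu
    rw [← card_filter_add_card_filter_not
      (s := (Tr G Γ).filter fun A => ∀ z ∈ Q.erase u, z ∉ A) (fun A => u ∈ A),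
      filter_filter, filter_filter]
    congr 2
    · ext A; simp [and_comm]
    · ext A
      simp only [mem_filter, mem_erase, and_congr_right_iff]
      intro _
      constructor
      · exact fun h => ⟨fun z hz => h z hz.2, h u hu⟩
      · intro h z hz
        by_cases e : z = u
        · exact e ▸ h.2
        · exact h.1 z ⟨e, hz⟩
  obtain ⟨g, hg, hgi⟩ := exists_image_eq h (Q.erase p) (Q.erase q)
    (by rw [card_erase_of_mem hp]; omega) (by rw [card_erase_of_mem hp, card_erase_of_mem hq])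
  have h1 := key p hp
  have h2 := key q hq
  have h3 := avoid_card_eq (Γ := Γ) hg hgi
  omega

/-- Two points not separated by translates avoiding `S` close up `S`. -/
lemma closed_of_not_separated {Γ S : Finset α} {s : ℕ} (hS : S.card = s)
    (h : ∀ S : Finset α, S.card ≤ s → TransAt G S) {x y : α} (hne : x ≠ y) (hx : x ∉ S)
    (hy : y ∉ S) (hsep : ∀ A ∈ Tr G Γ, (∀ z ∈ S, z ∉ A) → x ∈ A → y ∈ A) :
    Closed G Γ (insert y (insert x S)) := by
  classical
  have h' : ∀ S : Finset α, S.card < s + 1 → TransAt G S := fun S hS => h S (by omega)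
  set Q := insert y (insert x S) with hQdef
  have hyx : y ∉ insert x S := by simp [hne.symm, hy]
  have hQ : Q.card = s + 2 := by
    rw [hQdef, card_insert_of_notMem hyx, card_insert_of_notMem hx, hS]
  have hzero : ((Tr G Γ).filter fun A => x ∈ A ∧ ∀ z ∈ Q.erase x, z ∉ A).card = 0 := by
    rw [card_eq_zero, filter_eq_empty_iff]
    intro A hA hAx
    refine hAx.2 y (by simp [hQdef, hne.symm]) (hsep A hA (fun z hz => hAx.2 z ?_) hAx.1)
    simp only [hQdef, mem_erase, mem_insert]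
    exact ⟨fun e => hx (e ▸ hz), .inr (.inr hz)⟩
  intro A hA p hp hpA
  by_contra hcon
  push Not at hcon
  have h0 : ((Tr G Γ).filter fun A => p ∈ A ∧ ∀ z ∈ Q.erase p, z ∉ A).card = 0 := by
    rw [single_eq h' (by omega) hp (show x ∈ Q by simp [hQdef])]
    exact hzero
  rw [card_eq_zero, filter_eq_empty_iff] at h0
  exact h0 hA ⟨hpA, fun z hz hzA => (mem_erase.mp hz).1 (hcon z (mem_erase.mp hz).2 hzA)⟩

/-- A closed set does not separate two of its points. -/
lemma Closed.not_separated {Γ Q : Finset α} (hQ : Closed G Γ Q) {p q : α} (hp : p ∈ Q)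
    {A : Finset α} (hA : A ∈ Tr G Γ) (hrest : ∀ z ∈ Q, z ≠ p → z ≠ q → z ∉ A) (hpA : p ∈ A) :
    q ∈ A := by
  obtain ⟨u, hu, huA, hup⟩ := hQ A hA p hp hpA
  by_contra h
  exact hrest u hu hup (fun e => h (e ▸ huA)) huA

/-- A congruence saturated by all translates avoiding `S₀` yields closed completions. -/
lemma exists_completion {Γ S₀ : Finset α} {s : ℕ} (hS₀ : S₀.card = s)
    (h : ∀ S : Finset α, S.card ≤ s → TransAt G S) {r : α → α → Prop} (hr : Cong G S₀ r)
    (hprop : Proper S₀ r)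
    (hsat : ∀ A ∈ Tr G Γ, (∀ z ∈ S₀, z ∉ A) → ∀ x ∈ A, ∀ y, r x y → y ∈ A)
    (R : Finset α) (hR : R.card = s + 1) : ∃ p ∉ R, Closed G Γ (insert p R) := by
  classical
  have h' : ∀ S : Finset α, S.card < s + 1 → TransAt G S := fun S hS => h S (by omega)
  obtain ⟨x, y, hxy, hne⟩ := hprop.1
  have hx := hr.outside hxy hne
  have hy := hr.outside' hxy hne
  have hyx : y ∉ insert x S₀ := by simp [hne.symm, hy]
  have hclosed : Closed G Γ (insert y (insert x S₀)) :=
    closed_of_not_separated hS₀ h hne hx hy fun A hA hd hxA => hsat A hA hd x hxA y hxy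
  obtain ⟨g, hg, hgi⟩ := exists_image_eq h' (insert x S₀) R
    (by rw [card_insert_of_notMem hx]; omega) (by rw [card_insert_of_notMem hx]; omega)
  refine ⟨g y, ?_, ?_⟩
  · rw [← hgi, mem_image_perm]; simpa using hyx
  · have := hclosed.image hg
    rwa [image_insert, hgi] at this

/-- The points completing `T ∪ {x}` with distinct points of `F` are distinct points of `Γ`. -/
lemma completion_mem {Γ T : Finset α} (hT : ∀ z ∈ T, z ∉ Γ) {x f : α} (hx : x ∈ Γ)
    (hf : f ∉ Γ) {p : α} (hp : Closed G Γ (insert p (insert f (insert x T)))) :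
    p ∈ Γ ∧ p ≠ x := by
  obtain ⟨q, hq, hqΓ, hqx⟩ := hp Γ (self_mem_Tr Γ) x (by simp) hx
  simp only [mem_insert] at hq
  rcases hq with rfl | rfl | rfl | hq
  · exact ⟨hqΓ, hqx⟩
  · exact absurd hqΓ hf
  · exact absurd rfl hqx
  · exact absurd hqΓ (hT q hq)

end Cfsg.Agent.Marggraf
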