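import Cfsg.Agent.Lib.Perm.Marggraf.Base
import Cfsg.Agent.Lib.Perm.Marggraf.Count

/-!
# The degree `2k + 1` with a highly transitive group
-/

set_option autoImplicit false

open Finset Equiv

namespace Cfsg.Agent.Marggraf

variable {α : Type*} [DecidableEq α] [Fintype α] {G : Subgroup (Perm α)}

/-- The elements of `G` fixing everything outside `Γ`. -/
def supported (G : Subgroup (Perm α)) (Γ : Finset α) : Subgroup (Perm α) where
  carrier := {g | g ∈ G ∧ ∀ z ∉ Γ, g z = z}
  mul_mem' := fun ha hb => ⟨G.mul_mem ha.1 hb.1, fun z hz => by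
    rw [Perm.mul_apply, hb.2 z hz, ha.2 z hz]⟩
  one_mem' := ⟨G.one_mem, fun _ _ => rfl⟩
  inv_mem' := fun ha => ⟨G.inv_mem ha.1, fun z hz => by
    rw [Perm.inv_eq_iff_eq, ha.2 z hz]⟩

lemma mem_supported {Γ : Finset α} {g : Perm α} :
    g ∈ supported G Γ ↔ g ∈ G ∧ ∀ z ∉ Γ, g z = z := Iff.rfl

lemma apply_notMem_image (g : Perm α) {R : Finset α} {p : α} (hp : p ∉ R) :
    g p ∉ R.image g := by
  rw [mem_image_perm]
  simpa using hp

theorem tight_false {Γ S₀ : Finset α} (hΓ : IsJordan G Γ) (hk : 2 ≤ Γ.card)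
    (hn : Fintype.card α = 2 * Γ.card + 1) {s : ℕ} (hs : 2 ≤ s) (hsk : 2 * s ≤ Γ.card)
    (hS₀ : S₀.card = s) (htr : ∀ S : Finset α, S.card ≤ s → TransAt G S)
    {r : α → α → Prop} (hr : Cong G S₀ r) (hp : Proper S₀ r) : False := by
  classical
  set k := Γ.card with hkdef
  have hsat : ∀ A ∈ Tr G Γ, (∀ z ∈ S₀, z ∉ A) → ∀ x ∈ A, ∀ y, r x y → y ∈ A := by
    intro A hA hd
    refine (hr.inside_or_saturated (Tr_jordan hΓ hA) hd).resolve_left fun hin => ?_
    have := two_mul_class_le (htr S₀ hS₀.le) hr hp (fun z hz h => hd z h hz) hin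
    have := Tr_card hA
    omega
  have hex := exists_completion hS₀ htr hr hp hsat
  have h' : ∀ S : Finset α, S.card < s + 1 → TransAt G S := fun S hS => htr S (by omega)
  set F := Γᶜ with hFdef
  have hF : F.card = k + 1 := by rw [hFdef, card_compl, hn]; omega
  have hFmem : ∀ z, z ∈ F ↔ z ∉ Γ := fun z => mem_compl
  obtain ⟨T₀, hT₀F, hT₀⟩ := exists_subset_card_eq (show s - 1 ≤ F.card by omega)
  have hT₀Γ : ∀ z ∈ T₀, z ∉ Γ := fun z hz => (hFmem z).mp (hT₀F hz)
  obtain ⟨x, hx⟩ := card_pos.mp (show 0 < Γ.card by omega)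
  have : Nonempty α := ⟨x⟩
  have hxT : x ∉ T₀ := fun h => hT₀Γ x h hx
  set D := (univ : Finset α) \ (Γ ∪ T₀) with hD
  have hDmem : ∀ f, f ∈ D ↔ f ∉ Γ ∧ f ∉ T₀ := fun f => by simp [hD]
  have hDcard : D.card + s = k + 2 := by
    have hdis : Disjoint Γ T₀ := disjoint_left.mpr fun z hz h => hT₀Γ z h hz
    rw [hD, card_sdiff_of_subset (subset_univ _), card_univ, card_union_of_disjoint hdis, hn, hT₀]
    omega
  have hs3 : 3 ≤ s := by
    have h : D.card + 1 ≤ k := completion_bound (s := s) (by omega) hT₀Γ htr hex hx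
    omega
  have hR : ∀ f ∈ D, f ∉ insert x T₀ ∧ (insert f (insert x T₀)).card = s + 1 := by
    intro f hf
    rw [hDmem] at hf
    have : f ∉ insert x T₀ := by
      rw [mem_insert, not_or]; exact ⟨fun e => hf.1 (e ▸ hx), hf.2⟩
    exact ⟨this, by rw [card_insert_of_notMem this, card_insert_of_notMem hxT]; omega⟩
  have hinj : ∀ f ∈ D, ∀ f' ∈ D, ∀ p, Closed G Γ (insert p (insert f (insert x T₀))) →
      Closed G Γ (insert p (insert f' (insert x T₀))) → f = f' := by
    intro f hf f' hf' p hpf hpf'
    by_contra hne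
    have hsep : ∀ A ∈ Tr G Γ, (∀ z ∈ insert x T₀, z ∉ A) → f ∈ A → f' ∈ A := by
      intro A hA hd hfA
      have h1 : p ∈ A := hpf.not_separated (mem_insert_of_mem (mem_insert_self _ _)) hA
        (fun z hz hz1 hz2 => by
          rcases mem_insert.mp hz with rfl | hz
          · exact absurd rfl hz2
          rcases mem_insert.mp hz with rfl | hz
          · exact absurd rfl hz1
          exact hd z hz) hfA
      exact hpf'.not_separated (mem_insert_self _ _) hA
        (fun z hz hz1 hz2 => by
          rcases mem_insert.mp hz with rfl | hz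
          · exact absurd rfl hz1
          rcases mem_insert.mp hz with rfl | hz
          · exact absurd rfl hz2
          exact hd z hz) h1
    have hcl := closed_of_not_separated (S := insert x T₀) (s := s)
      (by rw [card_insert_of_notMem hxT]; omega) htr hne (hR f hf).1 (hR f' hf').1 hsep
    exact ((hDmem f').mp hf').1 (completion_mem hT₀Γ hx ((hDmem f).mp hf).1 hcl).1
  -- uniqueness of the completion
  have huniq : ∀ (R : Finset α) (p p' : α), R.card = s + 1 → p ∉ R → p' ∉ R →
      Closed G Γ (insert p R) → Closed G Γ (insert p' R) → p = p' := by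
    intro R p p' hRc hpR hp'R hc hc'
    by_contra hne
    have htwo : ∀ f ∈ D, ∃ u v, u ≠ v ∧ Closed G Γ (insert u (insert f (insert x T₀))) ∧
        Closed G Γ (insert v (insert f (insert x T₀))) := by
      intro f hf
      obtain ⟨g, hg, hgi⟩ := exists_image_eq h' R (insert f (insert x T₀)) (by omega)
        (by rw [(hR f hf).2]; omega)
      have h1 := hc.image hg
      have h2 := hc'.image hg
      rw [image_insert, hgi] at h1 h2
      exact ⟨g p, g p', fun e => hne (g.injective e), h1, h2⟩
    choose! u v huv hu hv using htwo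
    have hdis : (D : Set α).PairwiseDisjoint (fun f => ({u f, v f} : Finset α)) := by
      intro f hf f' hf' hff'
      rw [mem_coe] at hf hf'
      simp only [Function.onFun]
      rw [disjoint_left]
      intro z hz hz'
      simp only [mem_insert, mem_singleton] at hz hz'
      rcases hz with rfl | rfl <;> rcases hz' with e | e
      · exact hff' (hinj f hf f' hf' _ (hu f hf) (e ▸ hu f' hf'))
      · exact hff' (hinj f hf f' hf' _ (hu f hf) (e ▸ hv f' hf'))
      · exact hff' (hinj f hf f' hf' _ (hv f hf) (e ▸ hu f' hf'))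
      · exact hff' (hinj f hf f' hf' _ (hv f hf) (e ▸ hv f' hf'))
    have hle : (D.biUnion fun f => ({u f, v f} : Finset α)).card ≤ (Γ.erase x).card := by
      refine card_le_card fun z hz => ?_
      rw [mem_biUnion] at hz
      obtain ⟨f, hf, hz⟩ := hz
      simp only [mem_insert, mem_singleton] at hz
      have hfΓ := ((hDmem f).mp hf).1
      rw [mem_erase]
      rcases hz with rfl | rfl
      · exact ⟨(completion_mem hT₀Γ hx hfΓ (hu f hf)).2, (completion_mem hT₀Γ hx hfΓ (hu f hf)).1⟩
      · exact ⟨(completion_mem hT₀Γ hx hfΓ (hv f hf)).2, (completion_mem hT₀Γ hx hfΓ (hv f hf)).1⟩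
    rw [card_biUnion hdis, sum_congr rfl (fun f hf => card_pair (huv f hf)), sum_const,
      smul_eq_mul, card_erase_of_mem hx, ← hkdef] at hle
    omega
  choose! c hc hcc using hex
  -- the stabilizer of the outside is regular on `Γ`
  set X := supported G Γ with hX
  have hXmem : ∀ {g}, g ∈ X → ∀ z, (g z ∈ Γ ↔ z ∈ Γ) := fun hg => apply_mem_iff hg.2
  have hXR : ∀ {g}, g ∈ X → ∀ f ∈ D,
      (insert f (insert x T₀)).image g = insert f (insert (g x) T₀) := by
    intro g hg f hf
    rw [image_insert, image_insert, hg.2 f ((hDmem f).mp hf).1,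
      image_congr (f := g) (g := id) (fun z hz => hg.2 z (hT₀Γ z hz)), image_id]
  set Y := insert x (D.image fun f => c (insert f (insert x T₀))) with hY
  have hcD : ∀ f ∈ D, c (insert f (insert x T₀)) ∈ Γ.erase x := by
    intro f hf
    have := completion_mem hT₀Γ hx ((hDmem f).mp hf).1 (hcc _ (hR f hf).2)
    exact mem_erase.mpr ⟨this.2, this.1⟩
  have hYcard : Y.card = D.card + 1 := by
    rw [hY, card_insert_of_notMem, card_image_of_injOn]
    · intro f hf f' hf' e
      simp only at e
      exact hinj f hf f' hf' _ (hcc _ (hR f hf).2) (e ▸ hcc _ (hR f' hf').2)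
    · rw [mem_image]
      rintro ⟨f, hf, e⟩
      exact (mem_erase.mp (hcD f hf)).1 e
  have hYΓ : Y ⊆ Γ := by
    intro z hz
    rcases mem_insert.mp hz with rfl | hz
    · exact hx
    · obtain ⟨f, hf, rfl⟩ := mem_image.mp hz
      exact (mem_erase.mp (hcD f hf)).2
  have hYfix : ∀ g ∈ X, g x = x → ∀ z ∈ Y, g z = z := by
    intro g hg hgx z hz
    rcases mem_insert.mp hz with rfl | hz
    · exact hgx
    · obtain ⟨f, hf, rfl⟩ := mem_image.mp hz
      have himg := hXR hg f hf
      rw [hgx] at himg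
      have h1 := (hcc _ (hR f hf).2).image hg.1
      rw [image_insert, himg] at h1
      refine huniq _ _ _ (hR f hf).2 ?_ (hc _ (hR f hf).2) h1 (hcc _ (hR f hf).2)
      have hnot := apply_notMem_image g (hc _ (hR f hf).2)
      rwa [himg] at hnot
  set St : α → Finset (Perm α) := fun z => univ.filter fun g => g ∈ X ∧ g z = z with hSt
  have hStc : ∀ z ∈ Γ, (St x).card = (St z).card := by
    intro z hz
    obtain ⟨u, hu, huf, huxz⟩ := hΓ x hx z hz
    have huX : u ∈ X := ⟨hu, huf⟩
    refine card_bij (fun g _ => u * g * u⁻¹) ?_ ?_ ?_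
    · intro g hg
      simp only [hSt, mem_filter, mem_univ, true_and] at hg ⊢
      refine ⟨X.mul_mem (X.mul_mem huX hg.1) (X.inv_mem huX), ?_⟩
      rw [Perm.mul_apply, Perm.mul_apply, show u⁻¹ z = x from Perm.inv_eq_iff_eq.mpr huxz.symm,
        hg.2, huxz]
    · exact fun _ _ _ _ e => mul_left_cancel (mul_right_cancel e)
    · intro g hg
      simp only [hSt, mem_filter, mem_univ, true_and] at hg
      refine ⟨u⁻¹ * g * u, ?_, by group⟩
      simp only [hSt, mem_filter, mem_univ, true_and]
      refine ⟨X.mul_mem (X.mul_mem (X.inv_mem huX) hg.1) huX, ?_⟩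
      rw [Perm.mul_apply, Perm.mul_apply, huxz, hg.2, Perm.inv_eq_iff_eq, huxz]
  have hStY : ∀ w ∈ Y, St x = St w := fun w hw => by
    refine eq_of_subset_of_card_le (fun g hg => ?_) (hStc w (hYΓ hw)).ge
    simp only [hSt, mem_filter, mem_univ, true_and] at hg ⊢
    exact ⟨hg.1, hYfix g hg.1 hg.2 w hw⟩
  have hreg : ∀ g ∈ X, g x = x → g = 1 := by
    intro g hg hgx
    ext z
    rw [Perm.one_apply]
    by_cases hz : z ∈ Γ
    swap
    · exact hg.2 z hz
    obtain ⟨u, hu, huf, huxz⟩ := hΓ x hx z hz
    have huX : u ∈ X := ⟨hu, huf⟩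
    have himg : Y.image u ⊆ Γ := by
      intro w hw
      obtain ⟨y, hy, rfl⟩ := mem_image.mp hw
      exact (hXmem huX y).mpr (hYΓ hy)
    have hov : (Y ∩ Y.image u).Nonempty := by
      rw [← card_pos]
      have h1 := card_union_add_card_inter Y (Y.image u)
      have h2 := card_le_card (union_subset hYΓ himg)
      rw [card_image_perm] at h1
      omega
    obtain ⟨w, hw⟩ := hov
    rw [mem_inter] at hw
    obtain ⟨y, hy, rfl⟩ := mem_image.mp hw.2
    have hgy : u⁻¹ * g * u ∈ St y := by
      have hmem : g ∈ St (u y) := hStY (u y) hw.1 ▸ by simp [hSt, hg, hgx]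
      simp only [hSt, mem_filter, mem_univ, true_and] at hmem ⊢
      refine ⟨X.mul_mem (X.mul_mem (X.inv_mem huX) hg) huX, ?_⟩
      rw [Perm.mul_apply, Perm.mul_apply, hmem.2, Perm.inv_eq_iff_eq]
    rw [← hStY y hy] at hgy
    simp only [hSt, mem_filter, mem_univ, true_and, Perm.mul_apply] at hgy
    have := hgy.2
    rw [huxz, Perm.inv_eq_iff_eq, huxz] at this
    exact this
  have huq : ∀ g ∈ X, ∀ g' ∈ X, g x = g' x → g = g' := by
    intro g hg g' hg' e
    have := hreg (g'⁻¹ * g) (X.mul_mem (X.inv_mem hg') hg) (by simp [e])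
    exact (inv_mul_eq_one.mp this).symm
  -- the partners are involution images
  have hinvol : ∀ y ∈ Y, ∃ g ∈ X, g * g = 1 ∧ g x = y := by
    intro y hy
    rcases mem_insert.mp hy with rfl | hy
    · exact ⟨1, X.one_mem, one_mul 1, rfl⟩
    obtain ⟨f, hf, rfl⟩ := mem_image.mp hy
    set R := insert f (insert x T₀) with hRdef
    set y := c R with hydef
    obtain ⟨hyx, hyΓ⟩ := mem_erase.mp (hcD f hf)
    obtain ⟨g, hg, hgf, hgxy⟩ := hΓ x hx y hyΓ
    have hgX : g ∈ X := ⟨hg, hgf⟩
    refine ⟨g, hgX, hreg _ (X.mul_mem hgX hgX) ?_, hgxy⟩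
    rw [Perm.mul_apply, hgxy]
    have himg := hXR hgX f hf
    rw [hgxy] at himg
    have h1 := (hcc _ (hR f hf).2).image hg
    rw [image_insert, himg] at h1
    have hy1 : y ∉ T₀ := fun h => hT₀Γ y h hyΓ
    have hfy : f ≠ y := fun e => ((hDmem f).mp hf).1 (e ▸ hyΓ)
    have hfT : f ∉ T₀ := ((hDmem f).mp hf).2
    have hR'c : (insert f (insert y T₀)).card = s + 1 := by
      rw [card_insert_of_notMem (by simp [hfy, hfT]), card_insert_of_notMem hy1]
      omega
    have h2 : Closed G Γ (insert x (insert f (insert y T₀))) := by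
      have e : insert x (insert f (insert y T₀)) = insert y (insert f (insert x T₀)) := by
        ext z; simp only [mem_insert]; tauto
      rw [e]
      exact hcc _ (hR f hf).2
    refine huniq _ (g y) x hR'c ?_ ?_ h1 h2
    · rw [← himg]
      exact apply_notMem_image g (hc _ (hR f hf).2)
    · simp only [mem_insert, not_or]
      exact ⟨fun e => ((hDmem f).mp hf).1 (e ▸ hx), hyx.symm, hxT⟩
  have hXcard : Fintype.card X = k := by
    rw [hkdef, ← card_univ]
    refine card_bij (fun g _ => (g : Perm α) x) (fun g _ => (hXmem g.2 x).mpr hx)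
      (fun g _ g' _ e => Subtype.ext (huq g g.2 g' g'.2 e)) ?_
    intro y hy
    obtain ⟨g, hg, hgf, hgxy⟩ := hΓ x hx y hy
    exact ⟨⟨g, hg, hgf⟩, mem_univ _, hgxy⟩
  have hcount : Y.card ≤ ((univ : Finset X).filter fun g => g * g = 1).card := by
    choose! g hg hg1 hg2 using hinvol
    refine card_le_card_of_injOn
      (fun y => if hy : y ∈ Y then (⟨g y, hg y hy⟩ : X) else 1) ?_ ?_
    · intro y hy
      rw [mem_coe] at hy
      rw [mem_coe, mem_filter]
      refine ⟨mem_univ _, Subtype.ext ?_⟩
      simp only [dif_pos hy, Subgroup.coe_mul, Subgroup.coe_one]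
      exact hg1 y hy
    · intro y hy y' hy' e
      rw [mem_coe] at hy hy'
      simp only [dif_pos hy, dif_pos hy', Subtype.mk.injEq] at e
      rw [← hg2 y hy, ← hg2 y' hy', e]
  obtain ⟨f, hf⟩ := card_pos.mp (show 0 < D.card by omega)
  obtain ⟨h, hhX, hh1, hhy⟩ := hinvol (c (insert f (insert x T₀)))
    (mem_insert_of_mem (mem_image_of_mem (fun f => c (insert f (insert x T₀))) hf))
  obtain ⟨hyx, hyΓ⟩ := mem_erase.mp (hcD f hf)
  generalize c (insert f (insert x T₀)) = y at hhy hyx hyΓ
  have hhne : h ≠ 1 := fun e => hyx (by rw [← hhy, e, Perm.one_apply])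
  have hkeven : Even k := by
    rw [← hXcard]
    have h2 : orderOf (⟨h, hhX⟩ : X) = 2 := orderOf_eq_prime
      (Subtype.ext (by rw [Subgroup.coe_pow, Subgroup.coe_one, pow_two]; exact hh1))
      (fun e => hhne (congrArg Subtype.val e))
    exact even_iff_two_dvd.mpr (h2 ▸ orderOf_dvd_card)
  by_cases h4 : k % 4 = 2
  · have := card_sq_eq_one_le (X := X) (by rw [hXcard]; exact h4)
    rw [hXcard] at this
    omega
  have hk4 : k % 4 = 0 := by obtain ⟨m, hm⟩ := hkeven; omega
  -- four element fixed sets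
  have hhy' : h y = x := by rw [← hhy, ← Perm.mul_apply, hh1, Perm.one_apply]
  have hhh : ∀ z, h (h z) = z := fun z => by rw [← Perm.mul_apply, hh1, Perm.one_apply]
  have hfree : ∀ z ∈ Γ, h z ≠ z := by
    intro z hz e
    obtain ⟨u, hu, huf, huxz⟩ := hΓ x hx z hz
    have := hreg (u⁻¹ * h * u) (X.mul_mem (X.mul_mem (X.inv_mem ⟨hu, huf⟩) hhX) ⟨hu, huf⟩)
      (by rw [Perm.mul_apply, Perm.mul_apply, huxz, e, Perm.inv_eq_iff_eq, huxz])
    apply hhne
    calc h = u * (u⁻¹ * h * u) * u⁻¹ := by group
      _ = 1 := by rw [this]; group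
  have hpair : ∀ T : Finset α, (∀ z ∈ T, z ∉ Γ) →
      x ∉ T ∧ y ∉ T ∧ (insert x (insert y T)).card = T.card + 2 ∧
      (insert x (insert y T)).image h = insert x (insert y T) := by
    intro T hT
    have h1 : x ∉ T := fun e => hT x e hx
    have h2 : y ∉ T := fun e => hT y e hyΓ
    refine ⟨h1, h2, ?_, ?_⟩
    · rw [card_insert_of_notMem (by simp [hyx.symm, h1]), card_insert_of_notMem h2]
    · rw [image_insert, image_insert, hhy, hhy',
        image_congr (f := h) (g := id) (fun z hz => hhX.2 z (hT z hz)), image_id, Finset.insert_comm]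
  have hclaim : ∀ T : Finset α, T.card + 1 = s → (∀ z ∈ T, z ∉ Γ) →
      c (insert x (insert y T)) ∉ Γ := by
    intro T hTc hT
    obtain ⟨-, -, hcard, himg⟩ := hpair T hT
    intro hmem
    apply hfree _ hmem
    have hR' : (insert x (insert y T)).card = s + 1 := by omega
    have h1 := (hcc _ hR').image hhX.1
    rw [image_insert, himg] at h1
    refine huniq _ _ _ hR' ?_ (hc _ hR') h1 (hcc _ hR')
    have hnot := apply_notMem_image h (hc (insert x (insert y T)) (by omega))
    rwa [himg] at hnot
  obtain ⟨T₂, hT₂F, hT₂⟩ := exists_subset_card_eq (show s - 3 ≤ F.card by omega)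
  have hT₂Γ : ∀ z ∈ T₂, z ∉ Γ := fun z hz => (hFmem z).mp (hT₂F hz)
  set Γ' := (Γ.erase x).erase y with hΓ'
  have hΓ'card : Γ'.card + 2 = k := by
    rw [hΓ', card_erase_of_mem (mem_erase.mpr ⟨hyx, hyΓ⟩), card_erase_of_mem hx]
    omega
  have hΓ'mem : ∀ z, z ∈ Γ' ↔ z ≠ y ∧ z ≠ x ∧ z ∈ Γ := fun z => by simp [hΓ']
  have hhΓ' : ∀ z ∈ Γ', h z ∈ Γ' := by
    intro z hz
    rw [hΓ'mem] at hz ⊢
    refine ⟨fun e => hz.2.1 ?_, fun e => hz.1 ?_, (hXmem hhX z).mpr hz.2.2⟩
    · rw [← hhh z, e, hhy']
    · rw [← hhh z, e, hhy]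
  set P := Γ'.image fun z => ({z, h z} : Finset α) with hP
  have hPcard : 2 * P.card = Γ'.card := by
    rw [card_eq_sum_card_image (fun z => ({z, h z} : Finset α)) Γ', ← hP,
      sum_congr rfl (fun p hp => ?_), sum_const, smul_eq_mul, mul_comm]
    rw [hP, mem_image] at hp
    obtain ⟨z, hz, rfl⟩ := hp
    have e : (Γ'.filter fun w => ({w, h w} : Finset α) = {z, h z}) = {z, h z} := by
      ext w
      simp only [mem_filter, mem_insert, mem_singleton]
      constructor
      · intro hw
        have : w ∈ ({z, h z} : Finset α) := hw.2 ▸ mem_insert_self _ _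
        simpa using this
      · rintro (rfl | rfl)
        · exact ⟨hz, rfl⟩
        · exact ⟨hhΓ' z hz, by rw [hhh, pair_comm]⟩
    rw [e, card_pair (hfree z ((hΓ'mem z).mp hz).2.2).symm]
  have hPodd : ¬ Even P.card := by rintro ⟨m, hm⟩; omega
  have hquad : ∀ a ∈ F \ T₂, ∃ z ∈ Γ',
      c (insert z (insert x (insert y (insert a T₂)))) = h z := by
    intro a ha
    rw [mem_sdiff, hFmem] at ha
    set T := insert a T₂ with hT
    have hTΓ : ∀ z ∈ T, z ∉ Γ := fun z hz => by
      rcases mem_insert.mp hz with rfl | hz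
      exacts [ha.1, hT₂Γ z hz]
    have hTc : T.card + 2 = s := by rw [hT, card_insert_of_notMem ha.2]; omega
    obtain ⟨hxT', hyT', hcard, himg⟩ := hpair T hTΓ
    have hzR : ∀ z ∈ Γ', z ∉ insert x (insert y T) ∧
        (insert z (insert x (insert y T))).card = s + 1 := by
      intro z hz
      rw [hΓ'mem] at hz
      have : z ∉ insert x (insert y T) := by
        simp only [mem_insert, not_or]
        exact ⟨hz.2.1, hz.1, fun e => hTΓ z e hz.2.2⟩
      exact ⟨this, by rw [card_insert_of_notMem this]; omega⟩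
    set σ : α → α := fun z => c (insert z (insert x (insert y T))) with hσ
    have hnot : ∀ z ∈ Γ', σ z ≠ z ∧ σ z ≠ x ∧ σ z ≠ y ∧ σ z ∉ T := by
      intro z hz
      have := hc _ (hzR z hz).2
      simp only [mem_insert, not_or] at this
      exact this
    have hσmem : ∀ z ∈ Γ', σ z ∈ Γ' := by
      intro z hz
      have hz' := (hΓ'mem z).mp hz
      obtain ⟨h1, h2, h3, h4⟩ := hnot z hz
      rw [hΓ'mem]
      refine ⟨h3, h2, ?_⟩
      by_contra hΓn
      have hwc : (insert (σ z) T).card + 1 = s := by rw [card_insert_of_notMem h4]; omega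
      have hwΓ : ∀ u ∈ insert (σ z) T, u ∉ Γ := fun u hu => by
        rcases mem_insert.mp hu with rfl | hu
        exacts [hΓn, hTΓ u hu]
      obtain ⟨-, -, hcard', -⟩ := hpair _ hwΓ
      apply hclaim _ hwc hwΓ
      have hzT : z ∉ insert x (insert y (insert (σ z) T)) := by
        simp only [mem_insert, not_or]
        exact ⟨hz'.2.1, hz'.1, Ne.symm h1, fun e => hTΓ z e hz'.2.2⟩
      have := huniq _ _ z (by omega) (hc _ (by omega)) hzT (hcc _ (by omega)) (by
        have e : insert z (insert x (insert y (insert (σ z) T))) =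
            insert (σ z) (insert z (insert x (insert y T))) := by
          ext u; simp only [mem_insert]; tauto
        rw [e]
        exact hcc _ (hzR z hz).2)
      rw [this]
      exact hz'.2.2
    have hσσ : ∀ z ∈ Γ', σ (σ z) = z := by
      intro z hz
      have h2 := hzR (σ z) (hσmem z hz)
      refine huniq _ _ z h2.2 (hc _ h2.2) ?_ (hcc _ h2.2) ?_
      · have := (hzR z hz).1
        simp only [mem_insert, not_or] at this ⊢
        exact ⟨(hnot z hz).1.symm, this⟩
      · have e : insert z (insert (σ z) (insert x (insert y T))) =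
            insert (σ z) (insert z (insert x (insert y T))) := Finset.insert_comm _ _ _
        rw [e]
        exact hcc _ (hzR z hz).2
    have hσh : ∀ z ∈ Γ', σ (h z) = h (σ z) := by
      intro z hz
      have h1 := (hcc _ (hzR z hz).2).image hhX.1
      rw [image_insert, image_insert, himg] at h1
      have h2 := hzR (h z) (hhΓ' z hz)
      refine huniq _ _ _ h2.2 (hc _ h2.2) ?_ (hcc _ h2.2) h1
      rw [← himg, ← image_insert]
      exact apply_notMem_image h (hc _ (hzR z hz).2)
    by_contra hcon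
    push Not at hcon
    apply hPodd
    refine even_card_of_involution P (fun p => p.image σ) ?_ ?_ ?_
    · intro p hp
      rw [hP, mem_image] at hp ⊢
      obtain ⟨z, hz, rfl⟩ := hp
      exact ⟨σ z, hσmem z hz, by rw [image_insert, image_singleton, hσh z hz]⟩
    · intro p hp
      rw [hP, mem_image] at hp
      obtain ⟨z, hz, rfl⟩ := hp
      rw [image_image, image_insert, image_singleton]
      simp only [Function.comp_apply, hσσ z hz, hσσ _ (hhΓ' z hz)]
    · intro p hp e
      rw [hP, mem_image] at hp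
      obtain ⟨z, hz, rfl⟩ := hp
      have hm : σ z ∈ ({z, h z} : Finset α) := by
        rw [← e]; exact mem_image_of_mem σ (mem_insert_self _ _)
      rw [mem_insert, mem_singleton] at hm
      rcases hm with hm | hm
      exacts [(hnot z hz).1 hm, hcon z hz hm]
  choose! zc hz hzc using hquad
  have hinj' : ((F \ T₂ : Finset α) : Set α).InjOn (fun a => ({zc a, h (zc a)} : Finset α)) := by
    intro a ha a' ha' e
    rw [mem_coe] at ha ha'
    simp only at e
    have hzz := (hΓ'mem _).mp (hz a ha)
    set z := zc a with hzdef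
    set R := insert x (insert y (insert z (insert (h z) T₂))) with hRdef
    have hhz := (hΓ'mem _).mp (hhΓ' z (hz a ha))
    have hRc : R.card = s + 1 := by
      have e1 : h z ∉ T₂ := fun e => hT₂Γ _ e hhz.2.2
      have e2 : z ∉ insert (h z) T₂ := by
        simp only [mem_insert, not_or]
        exact ⟨(hfree z hzz.2.2).symm, fun e => hT₂Γ _ e hzz.2.2⟩
      have e3 : y ∉ insert z (insert (h z) T₂) := by
        simp only [mem_insert, not_or]
        exact ⟨hzz.1.symm, hhz.1.symm, fun e => hT₂Γ _ e hyΓ⟩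
      have e4 : x ∉ insert y (insert z (insert (h z) T₂)) := by
        simp only [mem_insert, not_or]
        exact ⟨hyx.symm, hzz.2.1.symm, hhz.2.1.symm, fun e => hT₂Γ _ e hx⟩
      rw [hRdef, card_insert_of_notMem e4, card_insert_of_notMem e3, card_insert_of_notMem e2,
        card_insert_of_notMem e1]
      omega
    have key : ∀ b ∈ F \ T₂, ({zc b, h (zc b)} : Finset α) = {z, h z} →
        b ∉ R ∧ Closed G Γ (insert b R) := by
      intro b hb hbz
      rw [mem_sdiff, hFmem] at hb
      constructor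
      · simp only [hRdef, mem_insert, not_or]
        exact ⟨fun e => hb.1 (e ▸ hx), fun e => hb.1 (e ▸ hyΓ), fun e => hb.1 (e ▸ hzz.2.2),
          fun e => hb.1 (e ▸ hhz.2.2), hb.2⟩
      · have hb' : b ∈ F \ T₂ := mem_sdiff.mpr ⟨(hFmem b).mpr hb.1, hb.2⟩
        have hzb := (hΓ'mem _).mp (hz b hb')
        have hcl := hcc (insert (zc b) (insert x (insert y (insert b T₂)))) (by
          have e1 : y ∉ insert b T₂ := by
            simp only [mem_insert, not_or]
            exact ⟨fun e => hb.1 (e ▸ hyΓ), fun e => hT₂Γ _ e hyΓ⟩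
          have e2 : x ∉ insert y (insert b T₂) := by
            simp only [mem_insert, not_or]
            exact ⟨hyx.symm, fun e => hb.1 (e ▸ hx), fun e => hT₂Γ _ e hx⟩
          have e3 : zc b ∉ insert x (insert y (insert b T₂)) := by
            simp only [mem_insert, not_or]
            exact ⟨hzb.2.1, hzb.1, fun e => hb.1 (e ▸ hzb.2.2), fun e => hT₂Γ _ e hzb.2.2⟩
          rw [card_insert_of_notMem e3, card_insert_of_notMem e2, card_insert_of_notMem e1,
            card_insert_of_notMem hb.2]
          omega)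
        rw [hzc b hb'] at hcl
        have hext := Finset.ext_iff.mp hbz
        have e : insert b R = insert (h (zc b)) (insert (zc b) (insert x (insert y (insert b T₂)))) := by
          ext u
          have := hext u
          simp only [hRdef, mem_insert, mem_singleton] at this ⊢
          tauto
        rw [e]
        exact hcl
    exact huniq R a a' hRc (key a ha rfl).1 (key a' ha' e.symm).1 (key a ha rfl).2
      (key a' ha' e.symm).2
  have hmaps : Set.MapsTo (fun a => ({zc a, h (zc a)} : Finset α))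
      (F \ T₂ : Finset α) (P : Finset (Finset α)) := fun a ha =>
    mem_coe.mpr (mem_image.mpr ⟨zc a, hz a (mem_coe.mp ha), rfl⟩)
  have := card_le_card_of_injOn _ hmaps hinj'
  rw [card_sdiff_of_subset hT₂F] at this
  omega

end Cfsg.Agent.Marggraf
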